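import Cfsg.Agent.InvChar68.ZC.Fusion
import Cfsg.Agent.Lib.Transfer.PClasses

/-!
# Groups whose Sylow centre has 2-nilpotent centralizer: reduction to characteristic two
-/

set_option autoImplicit false
set_option linter.style.haveILetI false

namespace Cfsg.Agent.InvChar68.ZC

open Subgroup
open Cfsg.Agent.SigDown91 (IsBig gen le_gen orderOf_of_sq)

variable {G : Type*} [Group G] [Finite G]

/-- `O(C(i))`. -/
local notation "θ" => Cfsg.centralizerPPrimeCore (G := G) 2

/-- `O²(G)`. -/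
local notation "H" => Cfsg.pResidual 2 G

/-- `Ω₁(Z(S))`. -/
abbrev zOmega (S : Sylow 2 G) : Subgroup G :=
  Cfsg.omegaOne 2 ((S : Subgroup G) ⊓ centralizer ((S : Subgroup G) : Set G))

theorem zOmega_le (S : Sylow 2 G) :
    zOmega S ≤ (S : Subgroup G) ⊓ centralizer ((S : Subgroup G) : Set G) :=
  (closure_le _).mpr fun _ hx => hx.1

theorem zOmega_commute {S : Sylow 2 G} {x s : G} (hx : x ∈ zOmega S) (hs : s ∈ (S : Subgroup G)) :
    Commute s x :=
  mem_centralizer_iff.mp (zOmega_le S hx).2 s hs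

theorem zOmega_elementary (S : Sylow 2 G) : Cfsg.IsElementaryAbelian 2 (zOmega S) :=
  isElementaryAbelian_closure (fun _ hx y hy => (show Commute y _ from
    mem_centralizer_iff.mp hx.1.2 y hy.1.1).symm) fun _ hx => hx.2

theorem mem_zOmega {S : Sylow 2 G} {x : G} (hxS : x ∈ (S : Subgroup G)) (hx : x ^ 2 = 1)
    (hc : ∀ s ∈ (S : Subgroup G), Commute s x) : x ∈ zOmega S :=
  subset_closure ⟨⟨hxS, mem_centralizer_iff.mpr fun s hs => (hc s hs).eq⟩, hx⟩

theorem sylow_inf_residual_ne_bot (heven : Even (Nat.card G)) (hO' : Cfsg.pPrimeCore 2 G = ⊥)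
    (hO : Cfsg.pCore 2 G = ⊥) (S : Sylow 2 G) : (S : Subgroup G) ⊓ H ≠ ⊥ := by
  intro h
  haveI : Fact (Nat.Prime 2) := ⟨Nat.prime_two⟩
  have hodd : (Nat.card H).Coprime 2 := by
    rw [Nat.coprime_comm, Nat.prime_two.coprime_iff_not_dvd]
    intro hd
    obtain ⟨x, hx⟩ := exists_prime_orderOf_dvd_card' 2 hd
    obtain ⟨g, hg⟩ := Transfer.exists_conj_mem_sylow S (x := (x : G)) (k := 1)
      (by rw [pow_one, Subgroup.orderOf_coe]; exact hx)
    have hmem : g * (x : G) * g⁻¹ ∈ (S : Subgroup G) ⊓ H :=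
      ⟨hg, (inferInstance : (H : Subgroup G).Normal).conj_mem _ x.2 g⟩
    rw [h, mem_bot, conj_eq_one_iff] at hmem
    rw [← Subgroup.orderOf_coe, hmem, orderOf_one] at hx
    omega
  have hH : H = ⊥ := le_bot_iff.mp (hO' ▸ Thompson.le_pPrimeCore inferInstance hodd)
  have htop : (S : Subgroup G) = ⊤ := by
    have := Transfer.sylow_sup_pResidual_eq_top S
    rwa [hH, sup_bot_eq] at this
  have hle : (⊤ : Subgroup G) ≤ Cfsg.pCore 2 G :=
    le_sSup ⟨inferInstance, by rw [← htop]; exact S.isPGroup'⟩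
  rw [hO, le_bot_iff] at hle
  rw [← Subgroup.card_top, hle, Subgroup.card_bot] at heven
  exact Nat.not_even_one heven

/-- From local data to the two main alternatives. -/
theorem finish (hC : SolvCent G) (hO' : Cfsg.pPrimeCore 2 G = ⊥) (S : Sylow 2 G)
    (hR : (S : Subgroup G) ⊓ H ≠ ⊥) {W : Subgroup G} (hWodd : Odd (Nat.card W))
    (hNW : normalizer ((S : Subgroup G) : Set G) ≤ normalizer (W : Set G))
    (hloc : ∀ t ∈ (S : Subgroup G), t ∈ H ⊔ zOmega S → orderOf t = 2 →
      θ t ≤ W ∧ centralizer ({t} : Set G) ≤ normalizer (W : Set G)) :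
    (∃ M : Subgroup ↥(Cfsg.pResidual 2 G), Cfsg.IsStronglyEmbedded M) ∨
      Cfsg.IsCharacteristicTwoType ↥(Cfsg.pResidual 2 G ⊔ zOmega S) := by
  haveI : Fact (Nat.Prime 2) := ⟨Nat.prime_two⟩
  have hHS : H ⊔ (S : Subgroup G) = ⊤ := by rw [sup_comm]; exact Transfer.sylow_sup_pResidual_eq_top S
  by_cases hW : W = ⊥
  · right
    haveI : (H ⊔ zOmega S).Normal := by
      rw [← normalizer_eq_top_iff, eq_top_iff, ← hHS]
      refine sup_le (le_sup_left.trans Subgroup.le_normalizer) ?_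
      rw [Subgroup.le_normalizer_iff]
      intro s hs x hx
      rw [mem_sup_of_normal_left] at hx
      obtain ⟨y, hy, w, hw, rfl⟩ := hx
      rw [show s * (y * w) * s⁻¹ = (s * y * s⁻¹) * (s * w * s⁻¹) by group,
        mul_inv_eq_iff_eq_mul.mpr (zOmega_commute hw hs).eq]
      exact mul_mem (mem_sup_left ((inferInstance : (H : Subgroup G).Normal).conj_mem y hy s))
        (mem_sup_right hw)
    obtain ⟨z, -, hzH, hz, -⟩ := exists_central_involution_of_normal S H hR
    refine charTwoType_of_cores hC ?_ fun t ht hto => ?_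
    · have hd := Subgroup.orderOf_dvd_natCard _ (mem_sup_left hzH : z ∈ H ⊔ zOmega S)
      rw [hz] at hd
      exact even_iff_two_dvd.mpr hd
    · obtain ⟨g, hg⟩ := Transfer.exists_conj_mem_sylow S (x := t) (k := 1) (by rw [pow_one]; exact hto)
      have h := (hloc _ hg (‹(H ⊔ zOmega S).Normal›.conj_mem t ht g)
        (by rw [conj_orderOf]; exact hto)).1
      rw [hW, le_bot_iff] at h
      refine (Subgroup.eq_bot_iff_forall _).mpr fun y hy => ?_
      have h2 := Signalizer.conj_mem_cpc g hy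
      rw [h, mem_bot, conj_eq_one_iff] at h2
      exact h2
  · left
    refine ⟨_, stronglyEmbedded_of_local S hHS hR (fun h => hW ?_)
      (Subgroup.le_normalizer.trans hNW) hNW fun t htS htH hto =>
        (hloc t htS (mem_sup_left htH) hto).2⟩
    haveI := normalizer_eq_top_iff.mp h
    exact le_bot_iff.mp (hO' ▸ Thompson.le_pPrimeCore inferInstance (Nat.coprime_two_right.mpr hWodd))

variable {S : Sylow 2 G} {z : G}

theorem One.normalizer_le_cpc (O : One S z) :
    normalizer ((S : Subgroup G) : Set G) ≤ normalizer ((θ z : Subgroup G) : Set G) := by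
  intro n hn
  have hconj : n * z * n⁻¹ = z := by
    refine O.uniq _ ((mem_normalizer_iff.mp hn z).mp O.zS) (by rw [conj_orderOf]; exact O.oz)
      fun s hs => ?_
    have hs' : n⁻¹ * s * n ∈ (S : Subgroup G) := by
      rw [mem_normalizer_iff.mp hn, show n * (n⁻¹ * s * n) * n⁻¹ = s by group]
      exact hs
    show s * (n * z * n⁻¹) = n * z * n⁻¹ * s
    calc s * (n * z * n⁻¹) = n * (n⁻¹ * s * n * z) * n⁻¹ := by group
      _ = n * (z * (n⁻¹ * s * n)) * n⁻¹ := by rw [(O.zc _ hs').eq]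
      _ = _ := by group
  exact Signalizer.le_normalizer_cpc z
    (mem_centralizer_singleton_iff.mpr (mul_inv_eq_iff_eq_mul.mp hconj))

/-- Conjugates of `z` inside `S` centralize into `N(O(C(z)))`. -/
theorem One.conj_local (O : One S z) (hC : SolvCent G) {x g : G} (hxS : x ∈ (S : Subgroup G))
    (hg : g * z * g⁻¹ = x) :
    θ x = θ z ∧ centralizer ({x} : Set G) ≤ normalizer ((θ z : Subgroup G) : Set G) := by
  obtain ⟨h1, h2⟩ := O.cpc_eq hC hxS hg
  refine ⟨h1, fun y hy => ?_⟩
  rw [← hg] at hy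
  have h3 : g⁻¹ * y * g ∈ centralizer ({z} : Set G) := by
    rw [mem_centralizer_singleton_iff]
    calc g⁻¹ * y * g * z = g⁻¹ * (y * (g * z * g⁻¹)) * g := by group
      _ = g⁻¹ * (g * z * g⁻¹ * y) * g := by rw [mem_centralizer_singleton_iff.mp hy]
      _ = _ := by group
  rw [show y = g * (g⁻¹ * y * g) * g⁻¹ by group]
  exact mul_mem (mul_mem h2 (Signalizer.le_normalizer_cpc z h3)) (inv_mem h2)

/-- One central involution, not weakly closed. -/
theorem One.main (O : One S z) (hC : SolvCent G) (hO' : Cfsg.pPrimeCore 2 G = ⊥)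
    (hR : (S : Subgroup G) ⊓ H ≠ ⊥) (hzH : z ∈ H) (hzZ : zOmega S ≤ H) {g₀ v : G}
    (hvS : v ∈ (S : Subgroup G)) (hvz : v ≠ z) (hg₀ : g₀ * z * g₀⁻¹ = v) :
    (∃ M : Subgroup ↥(Cfsg.pResidual 2 G), Cfsg.IsStronglyEmbedded M) ∨
      Cfsg.IsCharacteristicTwoType ↥(Cfsg.pResidual 2 G ⊔ zOmega S) := by
  haveI : Fact (Nat.Prime 2) := ⟨Nat.prime_two⟩
  have hvH : v ∈ H := hg₀ ▸ (inferInstance : (H : Subgroup G).Normal).conj_mem z hzH g₀
  have hXH : H ⊔ zOmega S = H := sup_eq_left.mpr hzZ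
  by_cases hrank : ∃ E ≤ (S : Subgroup G), Big8 E
  · obtain ⟨E, hES, hE⟩ := hrank
    obtain ⟨U, hU, hU4, hU2⟩ := Involution.exists_normal_four S.isPGroup'
      (E := E.subgroupOf (S : Subgroup G))
      (by rw [Nat.card_congr (subgroupOfEquivOfLe hES).toEquiv]; exact hE.2)
      (fun e he => Subtype.ext (by
        have := hE.1.2 _ (mem_subgroupOf.mp he)
        rw [pow_two] at this
        exact this))
    obtain ⟨a, F⟩ := O.frame_of_normal_four hU hU4 hU2
    have D : Data S z a := ⟨F, hC, ⟨E, hES, hE⟩, Or.inl O.cz⟩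
    refine finish hC hO' S hR D.odd_gen D.normalizer_le fun t htS htX hto => ?_
    rw [hXH] at htX
    by_cases hbig : ∃ E ≤ (S : Subgroup G), Big8 E ∧ t ∈ E
    · obtain ⟨E', hE'S, hE', htE'⟩ := hbig
      exact D.good hE' hE'S htE' hto
    · obtain ⟨g, hg, hW⟩ := O.isolated_case D htS htX hto fun E' h1 h2 h3 => hbig ⟨E', h1, h2, h3⟩
      obtain ⟨h1, h2⟩ := O.conj_local hC htS hg
      rw [hW]
      exact ⟨h1.le, h2⟩
  · refine finish hC hO' S hR (Signalizer.cpc_odd z) O.normalizer_le_cpc fun t htS htX hto => ?_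
    rw [hXH] at htX
    obtain ⟨g, hg⟩ := O.conj_of_small hrank hzH hvS hvz hvH hg₀ htS htX hto
    obtain ⟨h1, h2⟩ := O.conj_local hC htS hg
    exact ⟨h1.le, h2⟩

/-- The reduction theorem. -/
theorem reduction (heven : Even (Nat.card G)) (hC : SolvCent G)
    (hO' : Cfsg.pPrimeCore 2 G = ⊥) (hO : Cfsg.pCore 2 G = ⊥) (S : Sylow 2 G)
    (hcen : centralizer ((zOmega S : Subgroup G) : Set G) ≤
      normalizer ((S : Subgroup G) : Set G)) :
    (∃ M : Subgroup ↥(Cfsg.pResidual 2 G), Cfsg.IsStronglyEmbedded M) ∨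
      (Nat.card ↥(zOmega S ⊓ Cfsg.pResidual 2 G) = 2 ∧
        ∀ h ∈ Cfsg.pResidual 2 G, ∀ x ∈ zOmega S ⊓ Cfsg.pResidual 2 G,
          h * x * h⁻¹ ∈ (S : Subgroup G) → h * x * h⁻¹ ∈ zOmega S) ∨
      (Nat.card ↥(zOmega S) = 4 ∧
        Cfsg.omegaOne 2 ((S : Subgroup G) ⊓ Cfsg.pResidual 2 G) = zOmega S) ∨
      Cfsg.IsCharacteristicTwoType ↥(Cfsg.pResidual 2 G ⊔ zOmega S) := by
  haveI : Fact (Nat.Prime 2) := ⟨Nat.prime_two⟩
  have hR := sylow_inf_residual_ne_bot heven hO' hO S
  obtain ⟨z, hzS, hzH, hz, hzc⟩ := exists_central_involution_of_normal S H hR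
  have hzZ : z ∈ zOmega S := mem_zOmega hzS (sq_of_orderOf hz) hzc
  by_cases hsec : ∃ a ∈ zOmega S, a ≠ 1 ∧ a ≠ z
  · obtain ⟨a, haZ, ha1, haz⟩ := hsec
    have hao : orderOf a = 2 := orderOf_of_sq ((zOmega_elementary S).2 a haZ) ha1
    have haS : a ∈ (S : Subgroup G) := (zOmega_le S haZ).1
    have F : Frame S z a := ⟨hzS, haS, hz, hao, haz, hzc, fun s hs =>
      Or.inl (mul_inv_eq_iff_eq_mul.mpr (zOmega_commute haZ hs).eq)⟩
    by_cases hrank : ∃ E ≤ (S : Subgroup G), Big8 E
    · have D : Data S z a := ⟨F, hC, hrank, Or.inr fun s hs => zOmega_commute haZ hs⟩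
      have key := finish hC hO' S hR D.odd_gen D.normalizer_le fun t htS _ hto => by
        obtain ⟨E, hES, hE, htE⟩ := D.good_of_commute htS hto (zOmega_commute haZ htS)
        exact D.good hE hES htE hto
      tauto
    · have hinv : ∀ t ∈ (S : Subgroup G), t ^ 2 = 1 → t ∈ four a z := by
        intro t htS ht
        by_contra hcon
        refine hrank ⟨_, sup_le F.four_leS (zpowers_le.mpr htS), big8_insert F.isBig ht hcon ?_⟩
        have : four a z ≤ centralizer ({t} : Set G) := four_le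
          (mem_centralizer_singleton_iff.mpr (zOmega_commute haZ htS).eq.symm)
          (mem_centralizer_singleton_iff.mpr (hzc t htS).eq.symm)
        exact fun e he => mem_centralizer_singleton_iff.mp (this he)
      have hZeq : zOmega S = four a z := le_antisymm
        (fun x hx => hinv x (zOmega_le S hx).1 ((zOmega_elementary S).2 x hx)) (four_le haZ hzZ)
      have hcard : Nat.card (zOmega S) = 4 := by
        refine le_antisymm ?_ (hZeq ▸ F.isBig.2)
        by_contra hcon
        exact hrank ⟨_, (zOmega_le S).trans inf_le_left, zOmega_elementary S,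
          eight_le_of_four_lt (zOmega_elementary S) (by omega)⟩
      by_cases hZH : zOmega S ≤ H
      · refine Or.inr (Or.inr (Or.inl ⟨hcard, le_antisymm
          ((closure_le _).mpr fun x hx => hZeq ▸ hinv x hx.1.1 hx.2) fun x hx => ?_⟩))
        exact subset_closure ⟨⟨(zOmega_le S hx).1, hZH hx⟩, (zOmega_elementary S).2 x hx⟩
      · refine Or.inr (Or.inl ⟨?_, fun h _ x hx hS => hZeq ▸ hinv _ hS ?_⟩)
        · have hdvd : Nat.card ↥(zOmega S ⊓ H) ∣ 2 ^ 2 := by
            rw [show (2 : ℕ) ^ 2 = 4 from rfl, ← hcard]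
            exact Subgroup.card_dvd_of_le inf_le_left
          obtain ⟨i, hi, hic⟩ := (Nat.dvd_prime_pow Nat.prime_two).mp hdvd
          have hne1 : i ≠ 0 := fun h0 => by
            rw [h0, pow_zero, Subgroup.card_eq_one] at hic
            have : z ∈ (⊥ : Subgroup G) := hic ▸ (⟨hzZ, hzH⟩ : z ∈ zOmega S ⊓ H)
            rw [mem_bot] at this
            rw [this, orderOf_one] at hz
            omega
          have hne2 : i ≠ 2 := fun h2 => hZH (inf_eq_left.mp
            (Subgroup.eq_of_le_of_card_ge inf_le_left (by rw [hic, h2, hcard]; norm_num)))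
          rw [hic, show i = 1 by omega, pow_one]
        · rw [conj_pow, (zOmega_elementary S).2 x hx.1, mul_one, mul_inv_cancel]
  · push Not at hsec
    have hcases : ∀ x ∈ zOmega S, x = 1 ∨ x = z := fun x hx => or_iff_not_imp_left.mpr (hsec x hx)
    have O : One S z := ⟨hzS, hz, hzc, fun x hxS hx hxc =>
      (hcases x (mem_zOmega hxS (sq_of_orderOf hx) hxc)).resolve_left
        (fun h => by simp [h] at hx),
      fun y hy => hcen (mem_centralizer_iff.mpr fun x hx => by
        rcases hcases x hx with rfl | rfl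
        · simp
        · exact (mem_centralizer_singleton_iff.mp hy).symm)⟩
    have hZH : zOmega S ≤ H := fun x hx => by
      rcases hcases x hx with rfl | rfl
      exacts [one_mem _, hzH]
    by_cases hwc : ∀ h ∈ H, h * z * h⁻¹ ∈ (S : Subgroup G) → h * z * h⁻¹ = z
    · refine Or.inr (Or.inl ⟨?_, fun h hh x hx hS => ?_⟩)
      · have heq : zOmega S = zpowers z := le_antisymm (fun x hx => by
          rcases hcases x hx with rfl | rfl
          exacts [one_mem _, mem_zpowers _]) (zpowers_le.mpr hzZ)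
        rw [inf_eq_left.mpr hZH, heq, Nat.card_zpowers, hz]
      · rcases hcases x hx.1 with rfl | rfl
        · simp
        · rw [hwc h hh hS]; exact hzZ
    · push Not at hwc
      obtain ⟨h, -, hS, hne⟩ := hwc
      have key := O.main hC hO' hR hzH hZH hS hne (g₀ := h) rfl
      tauto

end Cfsg.Agent.InvChar68.ZC
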