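import Cfsg.Agent.SigDown91.OddGenerated
import Cfsg.Agent.SFT45.Final
import Cfsg.Agent.Lib.Components.LBalance
import Cfsg.Agent.Lib.Transfer.Residual
import Cfsg.Agent.InvChar68.IndexTwoTransfer
import Cfsg.Agent.S0505
import Cfsg.Agent.SylowNum.Formula
import Cfsg.Agent.Lib.Involution.NormalFour
import Cfsg.Prelude.Def_Transfer
import Cfsg.Prelude.Def_Involutions

/-!
# Groups with solvable involution centralizers: signalizers, a strong embedding criterion, transfer
-/

set_option autoImplicit false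
set_option linter.style.haveILetI false

namespace Cfsg.Agent.InvChar68.ZC

open Subgroup
open Cfsg.Agent.SigDown91 (IsBig gen le_gen orderOf_of_sq)

variable {G : Type*} [Group G] [Finite G]

/-- `O(C(i))`. -/
local notation "θ" => Cfsg.centralizerPPrimeCore (G := G) 2

/-- Every involution centralizer is solvable. -/
def SolvCent (G : Type*) [Group G] : Prop :=
  ∀ t : G, orderOf t = 2 → Group.IsSolvable ↥(centralizer ({t} : Set G))

theorem SolvCent.con (hC : SolvCent G) {j : G} (hj : orderOf j = 2) :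
    Cfsg.IsPConstrained 2 ↥(centralizer ({j} : Set G)) :=
  haveI := hC j hj
  Components.isPConstrained_iff_pLayer_eq_bot.mpr (Components.pLayer_eq_bot_iff.mpr
    (Components.layer_eq_bot_iff.mpr fun _ hL => Components.component_not_isSolvable hL inferInstance))

/-- Elementary abelian of order at least eight. -/
def Big8 (E : Subgroup G) : Prop := Cfsg.IsElementaryAbelian 2 E ∧ 8 ≤ Nat.card E

omit [Finite G] in
theorem Big8.isBig {E : Subgroup G} (h : Big8 E) : IsBig E := ⟨h.1, by have := h.2; omega⟩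

omit [Finite G] in
theorem comm_of_mem {E : Subgroup G} (hE : Cfsg.IsElementaryAbelian 2 E) {x y : G} (hx : x ∈ E)
    (hy : y ∈ E) : Commute x y :=
  congrArg Subtype.val (hE.1.is_comm.comm (⟨x, hx⟩ : E) ⟨y, hy⟩)

omit [Finite G] in
theorem isElementaryAbelian_le {E D : Subgroup G} (hE : Cfsg.IsElementaryAbelian 2 E) (h : D ≤ E) :
    Cfsg.IsElementaryAbelian 2 D :=
  ⟨⟨⟨fun x y => Subtype.ext (comm_of_mem hE (h x.2) (h y.2)).eq⟩⟩, fun x hx => hE.2 x (h hx)⟩

omit [Finite G] in
/-- The span of pairwise commuting elements squaring to one. -/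
theorem isElementaryAbelian_closure {s : Set G} (hc : ∀ x ∈ s, ∀ y ∈ s, Commute x y)
    (h2 : ∀ x ∈ s, x ^ 2 = 1) : Cfsg.IsElementaryAbelian 2 (closure s) := by
  refine ⟨isMulCommutative_closure fun x hx y hy => (hc x hx y hy).eq, fun x hx => ?_⟩
  haveI : IsMulCommutative (closure s) := isMulCommutative_closure fun x hx y hy => (hc x hx y hy).eq
  induction hx using closure_induction with
  | mem x hx => exact h2 x hx
  | one => exact one_pow 2
  | mul x y hx hy h1 h2 =>
    have hc : Commute x y := congrArg Subtype.val (mul_comm' (⟨x, hx⟩ : closure s) ⟨y, hy⟩)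
    rw [hc.mul_pow, h1, h2, one_mul]
  | inv x hx h => rw [inv_pow, h, inv_one]

omit [Finite G] in
/-- Adding one commuting involution. -/
theorem isElementaryAbelian_insert {E : Subgroup G} (hE : Cfsg.IsElementaryAbelian 2 E) {v : G}
    (hv : v ^ 2 = 1) (hc : ∀ e ∈ E, Commute e v) :
    Cfsg.IsElementaryAbelian 2 (E ⊔ zpowers v) := by
  rw [zpowers_eq_closure, ← Subgroup.closure_eq E, ← Subgroup.closure_union]
  refine isElementaryAbelian_closure ?_ ?_
  · rintro x (hx | hx) y (hy | hy)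
    · exact comm_of_mem hE hx hy
    · rw [Set.mem_singleton_iff.mp hy]; exact hc x hx
    · rw [Set.mem_singleton_iff.mp hx]; exact (hc y hy).symm
    · rw [Set.mem_singleton_iff.mp hx, Set.mem_singleton_iff.mp hy]
  · rintro x (hx | hx)
    · exact hE.2 x hx
    · rw [Set.mem_singleton_iff.mp hx]; exact hv

theorem card_pow_two {E : Subgroup G} (hE : Cfsg.IsElementaryAbelian 2 E) :
    ∃ n, Nat.card E = 2 ^ n :=
  IsPGroup.iff_card.mp (Signal38.isPGroup_of_elementary hE)

theorem eight_le_of_four_lt {E : Subgroup G} (hE : Cfsg.IsElementaryAbelian 2 E)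
    (h : 4 < Nat.card E) : 8 ≤ Nat.card E := by
  obtain ⟨n, hn⟩ := card_pow_two hE
  have : 3 ≤ n := by
    by_contra hcon
    have := Nat.pow_le_pow_right two_pos (show n ≤ 2 by omega)
    omega
  have := Nat.pow_le_pow_right two_pos this
  omega

theorem card_lt_of_le_of_notMem {D E : Subgroup G} (h : D ≤ E) {v : G} (hv : v ∈ E) (hvD : v ∉ D) :
    Nat.card D < Nat.card E := by
  rcases Nat.lt_or_ge (Nat.card D) (Nat.card E) with h1 | h1
  · exact h1
  · exact absurd ((Subgroup.eq_of_le_of_card_ge h h1).symm ▸ hv) hvD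

/-- A four group plus one more commuting involution. -/
theorem big8_insert {V : Subgroup G} (hV : IsBig V) {v : G} (hv : v ^ 2 = 1) (hvV : v ∉ V)
    (hc : ∀ e ∈ V, Commute e v) : Big8 (V ⊔ zpowers v) := by
  have hE := isElementaryAbelian_insert hV.1 hv hc
  have h1 := card_lt_of_le_of_notMem (le_sup_left : V ≤ V ⊔ zpowers v)
    (mem_sup_right (mem_zpowers v)) hvV
  exact ⟨hE, eight_le_of_four_lt hE (by have := hV.2; omega)⟩

theorem gen_mono {B C : Subgroup G} (h : B ≤ C) : gen B ≤ gen C :=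
  iSup_le fun ⟨_, hb, hb1⟩ => le_gen (h hb) hb1

/-- Generation by any four subgroup. -/
theorem gen_eq_of_le (hC : SolvCent G) {E V : Subgroup G} (hE : Cfsg.IsElementaryAbelian 2 E)
    (hV : V ≤ E) (hV4 : 4 ≤ Nat.card V) : gen E = gen V :=
  le_antisymm
    (iSup_le fun ⟨a, ha, ha1⟩ => SigDown91.cpc_le_gen (fun j hj => hC.con hj)
      ⟨1, by rw [pow_one]; exact orderOf_of_sq (hE.2 a ha) ha1⟩
      ⟨isElementaryAbelian_le hE hV, hV4⟩ fun v hv => comm_of_mem hE ha (hV hv))
    (gen_mono hV)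

/-- The signalizer functor theorem applied to the cores. -/
theorem gen_facts (hC : SolvCent G) {E : Subgroup G} (hE : Big8 E) :
    Odd (Nat.card (gen E)) ∧ ∀ e ∈ E, e ≠ 1 → gen E ⊓ centralizer ({e} : Set G) ≤ θ e := by
  have hne : ∀ {e : G}, e ∈ E → e ≠ 1 → orderOf e = 2 := fun he h1 =>
    orderOf_of_sq (hE.1.2 _ he) h1
  have hθ : Cfsg.IsSolvableSignalizerFunctor 2 E θ := by
    refine ⟨⟨fun a _ _ => Signalizer.cpc_le a, fun a _ _ => ?_, fun a ha _ b hb x hx => ?_,
      fun a ha ha1 b hb hb1 => ?_⟩, fun a ha ha1 => ?_⟩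
    · exact fun h => (Nat.not_even_iff_odd.mpr (Signalizer.cpc_odd a)) (even_iff_two_dvd.mpr h)
    · exact (mem_normalizer_iff.mp (Signalizer.le_normalizer_cpc a
        (mem_centralizer_singleton_iff.mpr (comm_of_mem hE.1 hb ha).eq)) x).mp hx
    · exact SigDown91.balance ⟨1, by rw [pow_one]; exact hne ha ha1⟩ (hC.con (hne hb hb1))
        (comm_of_mem hE.1 ha hb)
    · haveI := hC a (hne ha ha1)
      exact Coprime.solvable_of_le (Signalizer.cpc_le a) inferInstance
  haveI : Fact (Nat.Prime 2) := ⟨Nat.prime_two⟩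
  obtain ⟨W, hW, hle⟩ := SFT45.completable_of_odd hE.1 (le_trans (by norm_num) hE.2) hθ
    fun a _ _ => Signalizer.cpc_odd a
  have hle' : gen E ≤ W := iSup_le fun ⟨a, ha, ha1⟩ => hle a ha ha1
  refine ⟨?_, fun e he he1 => (inf_le_inf_right _ hle').trans (hW.2.2.2 e he he1)⟩
  refine Nat.not_even_iff_odd.mp fun h => hW.2.1 ?_
  exact (even_iff_two_dvd.mp h).trans (Subgroup.card_dvd_of_le hle')

theorem map_gen (g : G) (B : Subgroup G) :
    (gen B).map (MulAut.conj g).toMonoidHom ≤ gen (B.map (MulAut.conj g).toMonoidHom) := by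
  rw [gen, Subgroup.map_iSup]
  refine iSup_le fun ⟨b, hb, hb1⟩ => ?_
  rintro _ ⟨y, hy, rfl⟩
  exact le_gen (B := B.map (MulAut.conj g).toMonoidHom) (Subgroup.mem_map_of_mem _ hb)
    (by simpa using hb1) (by simpa using Signalizer.conj_mem_cpc g hy)

theorem gen_map (g : G) (B : Subgroup G) :
    gen (B.map (MulAut.conj g).toMonoidHom) = (gen B).map (MulAut.conj g).toMonoidHom := by
  refine le_antisymm ?_ (map_gen g B)
  have h := map_gen g⁻¹ (B.map (MulAut.conj g).toMonoidHom)
  have e : ∀ K : Subgroup G,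
      (K.map (MulAut.conj g).toMonoidHom).map (MulAut.conj g⁻¹).toMonoidHom = K := by
    intro K
    rw [Subgroup.map_map]
    convert Subgroup.map_id K
    ext x
    simp [mul_assoc]
  rw [e] at h
  intro x hx
  refine ⟨g⁻¹ * x * g, h ⟨x, hx, by simp⟩, ?_⟩
  simp [mul_assoc]

omit [Finite G] in
theorem map_conj_le_iff {B K : Subgroup G} {g : G} :
    B.map (MulAut.conj g).toMonoidHom ≤ K ↔ ∀ b ∈ B, g * b * g⁻¹ ∈ K := by
  rw [Subgroup.map_le_iff_le_comap]
  exact Iff.rfl

/-! ### The strongly embedded criterion -/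

theorem exists_central_involution_of_normal (S : Sylow 2 G) (H : Subgroup G) [H.Normal]
    (hR : (S : Subgroup G) ⊓ H ≠ ⊥) :
    ∃ z, z ∈ (S : Subgroup G) ∧ z ∈ H ∧ orderOf z = 2 ∧ ∀ s ∈ (S : Subgroup G), Commute s z := by
  haveI : Fact (Nat.Prime 2) := ⟨Nat.prime_two⟩
  have hne : H.subgroupOf (S : Subgroup G) ≠ ⊥ := by
    rw [Ne, subgroupOf_eq_bot, disjoint_iff, inf_comm]
    exact hR
  haveI : (H.subgroupOf (S : Subgroup G)).Normal := inferInstance
  obtain ⟨z, hzH, hzc, hzo⟩ := Involution.exists_central_mem_normal S.isPGroup' _ hne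
  exact ⟨z, z.2, hzH, by rw [Subgroup.orderOf_coe]; exact hzo, fun s hs =>
    congrArg Subtype.val (mem_center_iff.mp hzc ⟨s, hs⟩)⟩

/-- A normal subgroup inherits a strongly embedded subgroup from local data. -/
theorem stronglyEmbedded_of_local (S : Sylow 2 G) {H M : Subgroup G} [H.Normal]
    (hHS : H ⊔ (S : Subgroup G) = ⊤) (hR : (S : Subgroup G) ⊓ H ≠ ⊥) (hM : M ≠ ⊤)
    (hSM : (S : Subgroup G) ≤ M) (hNM : normalizer ((S : Subgroup G) : Set G) ≤ M)
    (hCM : ∀ t ∈ (S : Subgroup G), t ∈ H → orderOf t = 2 → centralizer ({t} : Set G) ≤ M) :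
    Cfsg.IsStronglyEmbedded (M.subgroupOf H) := by
  haveI : Fact (Nat.Prime 2) := ⟨Nat.prime_two⟩
  obtain ⟨z, hzS, hzH, hz, hzc⟩ := exists_central_involution_of_normal S H hR
  refine ⟨fun h => hM ?_, ?_, fun g hg => ?_⟩
  · rw [subgroupOf_eq_top] at h
    exact eq_top_iff.mpr (hHS ▸ sup_le h hSM)
  · have h1 : (⟨⟨z, hzH⟩, hSM hzS⟩ : M.subgroupOf H) ^ 2 = 1 :=
      Subtype.ext (Subtype.ext (by
        show z ^ 2 = 1
        rw [← hz, pow_orderOf_eq_one]))
    have h2 : (⟨⟨z, hzH⟩, hSM hzS⟩ : M.subgroupOf H) ≠ 1 := fun h => by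
      have : z = 1 := congrArg (fun x : M.subgroupOf H => ((x : H) : G)) h
      rw [this, orderOf_one] at hz
      omega
    exact even_iff_two_dvd.mpr ((orderOf_eq_prime h1 h2) ▸ orderOf_dvd_natCard _)
  · by_contra hodd
    rw [Nat.not_odd_iff_even, even_iff_two_dvd] at hodd
    obtain ⟨w, hw⟩ := exists_prime_orderOf_dvd_card' 2 hodd
    obtain ⟨s, hs, hse⟩ := (Subgroup.mem_inf.mp w.2).2
    set t : G := ((w : H) : G) with ht
    have htM : t ∈ M := (Subgroup.mem_inf.mp w.2).1
    have hto : orderOf t = 2 := by rw [ht, Subgroup.orderOf_coe, Subgroup.orderOf_coe, hw]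
    have hts : (g : G) * (s : G) * (g : G)⁻¹ = t := by
      rw [ht, ← hse]
      simp
    have hsM : (s : G) ∈ M := hs
    have hso : orderOf (s : G) = 2 := by
      rw [← hto, ← hts]
      exact (orderOf_injective (MulAut.conj (g : G)).toMonoidHom (MulAut.conj (g : G)).injective _).symm
    -- move both into `S`
    have hmove : ∀ u : G, u ∈ M → u ∈ H → orderOf u = 2 →
        ∃ m ∈ M, m * u * m⁻¹ ∈ (S : Subgroup G) ∧ m * u * m⁻¹ ∈ H ∧ orderOf (m * u * m⁻¹) = 2 := by
      intro u huM huH huo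
      have hP : IsPGroup 2 (zpowers (⟨u, huM⟩ : M)) := IsPGroup.of_card (n := 1) (by
        rw [Nat.card_zpowers, pow_one, ← Subgroup.orderOf_coe]; exact huo)
      obtain ⟨P, hP'⟩ := hP.exists_le_sylow
      obtain ⟨m, hm⟩ := MulAction.exists_smul_eq M P (S.subtype hSM)
      have hu : m * ⟨u, huM⟩ * m⁻¹ ∈ (S.subtype hSM : Subgroup M) := by
        rw [← hm]
        exact ⟨_, hP' (mem_zpowers _), rfl⟩
      exact ⟨m, m.2, hu, ‹H.Normal›.conj_mem u huH _,
        by rw [← huo]; exact orderOf_injective (MulAut.conj (m : G)).toMonoidHom (MulAut.conj (m : G)).injective u⟩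
    obtain ⟨m₁, hm₁, ht'S, ht'H, ht'o⟩ := hmove t htM (w : H).2 hto
    obtain ⟨m₂, hm₂, hs'S, hs'H, hs'o⟩ := hmove (s : G) hsM s.2 hso
    set k := m₁ * (g : G) * m₂⁻¹ with hk
    have hconj : k * (m₂ * (s : G) * m₂⁻¹) * k⁻¹ = m₁ * t * m₁⁻¹ := by
      rw [← hts, hk]; group
    have hkM : k ∉ M := by
      intro h
      apply hg
      rw [mem_subgroupOf]
      have : (g : G) = m₁⁻¹ * k * m₂ := by rw [hk]; group
      rw [this]
      exact mul_mem (mul_mem (inv_mem hm₁) h) hm₂
    have hz1 : k * z * k⁻¹ ∈ centralizer ({m₁ * t * m₁⁻¹} : Set G) := by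
      rw [mem_centralizer_singleton_iff, ← hconj]
      have h := (hzc _ hs'S).eq
      calc k * z * k⁻¹ * (k * (m₂ * (s : G) * m₂⁻¹) * k⁻¹)
          = k * (z * (m₂ * (s : G) * m₂⁻¹)) * k⁻¹ := by group
        _ = k * (m₂ * (s : G) * m₂⁻¹ * z) * k⁻¹ := by rw [h]
        _ = _ := by group
    have hz1o : orderOf (k * z * k⁻¹) = 2 := by
      rw [← hz]; exact orderOf_injective (MulAut.conj k).toMonoidHom (MulAut.conj k).injective z
    obtain ⟨m, hm, hz2S, hz2H, hz2o⟩ := hmove _ (hCM _ ht'S ht'H ht'o hz1)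
      (‹H.Normal›.conj_mem z hzH k) hz1o
    have hconj2 : m * (k * z * k⁻¹) * m⁻¹ = (m * k) * z * (m * k)⁻¹ := by group
    rw [hconj2] at hz2S hz2H hz2o
    -- the Sylow subgroup attached to `z₂` lies in `M`
    have hle : (((m * k) • S : Sylow 2 G) : Subgroup G) ≤ M := by
      refine le_trans ?_ (hCM _ hz2S hz2H hz2o)
      rw [Sylow.coe_subgroup_smul]
      rintro _ ⟨x, hx, rfl⟩
      rw [mem_centralizer_singleton_iff]
      simp only [MulDistribMulAction.toMonoidEnd_apply, MulDistribMulAction.toMonoidHom_apply,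
        MulAut.smul_def, MulAut.conj_apply]
      calc m * k * x * (m * k)⁻¹ * (m * k * z * (m * k)⁻¹) = m * k * (x * z) * (m * k)⁻¹ := by group
        _ = m * k * (z * x) * (m * k)⁻¹ := by rw [(hzc x hx).eq]
        _ = _ := by group
    obtain ⟨m', hm'⟩ := MulAction.exists_smul_eq M (((m * k) • S : Sylow 2 G).subtype hle)
      (S.subtype hSM)
    rw [Sylow.smul_subtype] at hm'
    have h3 := Sylow.subtype_injective hm'
    have h4 : (m' : G) * (m * k) ∈ normalizer ((S : Subgroup G) : Set G) := by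
      exact (Sylow.smul_eq_iff_mem_normalizer (P := S)).mp (by rw [mul_smul]; exact h3)
    apply hkM
    have h5 : k = m⁻¹ * ((m' : G)⁻¹ * ((m' : G) * (m * k))) := by group
    rw [h5]
    exact mul_mem (inv_mem hm) (mul_mem (inv_mem m'.2) (hNM h4))

/-! ### Characteristic two -/

theorem charTwoType_of_cores (hC : SolvCent G) {X : Subgroup G} [X.Normal]
    (heven : Even (Nat.card X)) (h : ∀ t ∈ X, orderOf t = 2 → θ t = ⊥) :
    Cfsg.IsCharacteristicTwoType ↥X := by
  refine S0505.result heven (fun t ht => ?_) fun t ht => ?_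
  · haveI := hC (t : G) (by rw [Subgroup.orderOf_coe]; exact ht)
    let f : centralizer ({t} : Set X) →* centralizer ({(t : G)} : Set G) :=
      (X.subtype.comp (centralizer ({t} : Set X)).subtype).codRestrict _ fun x =>
        mem_centralizer_singleton_iff.mpr
          (congrArg Subtype.val (mem_centralizer_singleton_iff.mp x.2))
    exact solvable_of_solvable_injective (f := f) fun a b hab =>
      Subtype.ext (Subtype.ext (congrArg (fun y : centralizer ({(t : G)} : Set G) => (y : G)) hab))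
  · set C := centralizer ({t} : Set X) with hCdef
    set K := ((Cfsg.oddCore ↥C).map C.subtype).map X.subtype with hK
    have hKC : K ≤ centralizer ({(t : G)} : Set G) := by
      rintro _ ⟨_, ⟨x, -, rfl⟩, rfl⟩
      exact mem_centralizer_singleton_iff.mpr
        (congrArg Subtype.val (mem_centralizer_singleton_iff.mp x.2))
    have hKodd : Odd (Nat.card K) := by
      rw [hK, card_map_of_injective X.subtype_injective, card_map_of_injective C.subtype_injective]
      exact Nat.coprime_two_right.mp Thompson.card_pPrimeCore_coprime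
    have hKn : centralizer ({(t : G)} : Set G) ≤ normalizer (K : Set G) := by
      rw [Subgroup.le_normalizer_iff]
      rintro c hc _ ⟨_, ⟨y, hy, rfl⟩, rfl⟩
      -- conjugation by `c` as an automorphism of `C_X(t)`
      have hmem : ∀ (c : G), c ∈ centralizer ({(t : G)} : Set G) → ∀ x : C,
          (⟨c * ((x : X) : G) * c⁻¹, ‹X.Normal›.conj_mem _ (x : X).2 c⟩ : X) ∈ C := by
        intro c hc x
        refine mem_centralizer_singleton_iff.mpr ?_
        refine Subtype.ext ?_
        have h1 : Commute c (t : G) := mem_centralizer_singleton_iff.mp hc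
        have h2 : Commute ((x : X) : G) (t : G) :=
          congrArg Subtype.val (mem_centralizer_singleton_iff.mp x.2)
        exact ((h1.mul_left h2).mul_left h1.inv_left).eq
      let e : C ≃* C :=
        { toFun := fun x => ⟨_, hmem c hc x⟩
          invFun := fun x => ⟨_, hmem c⁻¹ (inv_mem hc) x⟩
          left_inv := fun x => Subtype.ext (Subtype.ext (by simp [mul_assoc]))
          right_inv := fun x => Subtype.ext (Subtype.ext (by simp [mul_assoc]))
          map_mul' := fun x y => Subtype.ext (Subtype.ext (by simp [mul_assoc])) }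
      refine ⟨(e y : X), ⟨e y, ?_, rfl⟩, rfl⟩
      have he := Thompson.map_pPrimeCore_equiv (p := 2) e
      show e y ∈ Cfsg.pPrimeCore 2 ↥C
      rw [← he]
      exact Subgroup.mem_map_of_mem e.toMonoidHom hy
    have hle := Signalizer.le_cpc hKC hKn hKodd
    rw [h t t.2 (by rw [Subgroup.orderOf_coe]; exact ht), le_bot_iff, hK,
      map_eq_bot_iff_of_injective _ X.subtype_injective,
      map_eq_bot_iff_of_injective _ C.subtype_injective] at hle
    exact hle

/-! ### Transfer inside `O²(G)` -/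

theorem pResidual_index_ne_two (N : Subgroup ↥(Cfsg.pResidual 2 G)) [N.Normal] : N.index ≠ 2 := by
  intro h
  haveI : Fact (Nat.Prime 2) := ⟨Nat.prime_two⟩
  have h1 : Cfsg.pResidual 2 ↥(Cfsg.pResidual 2 G) ≤ N :=
    Transfer.pResidual_le_of_index (n := 1) (by rw [h, pow_one])
  rw [Transfer.pResidual_pResidual, top_le_iff] at h1
  rw [h1, index_top] at h
  omega

/-- An involution of `R = S ∩ O²(G)` outside a subgroup of index two is fused into it. -/
theorem exists_conj_mem (S : Sylow 2 G) {B : Subgroup G} {x : G} (hxS : x ∈ (S : Subgroup G))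
    (hxH : x ∈ Cfsg.pResidual 2 G) (hx : orderOf x = 2) (hxB : x ∉ B)
    (hB : ∀ p ∈ (S : Subgroup G), ∀ q ∈ (S : Subgroup G), p ∈ Cfsg.pResidual 2 G →
      q ∈ Cfsg.pResidual 2 G → p ∉ B → q ∉ B → p * q ∈ B) :
    ∃ h ∈ Cfsg.pResidual 2 G, h * x * h⁻¹ ∈ (S : Subgroup G) ∧ h * x * h⁻¹ ∈ B := by
  haveI : Fact (Nat.Prime 2) := ⟨Nat.prime_two⟩
  set H := Cfsg.pResidual 2 G with hH
  haveI : H.Normal := inferInstance
  set R := SylowNum.infSylow H S with hR
  have hRmem : ∀ r : H, r ∈ (R : Subgroup H) → (r : G) ∈ (S : Subgroup G) := fun r hr =>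
    (Subgroup.mem_inf.mp (show (r : G) ∈ (S : Subgroup G) ⊓ H from hr)).1
  have hxR : (⟨x, hxH⟩ : H) ∈ (R : Subgroup H) := show x ∈ (S : Subgroup G) ⊓ H from ⟨hxS, hxH⟩
  by_contra hcon
  push Not at hcon
  have hidx : (B.subgroupOf H).relIndex (R : Subgroup H) = 2 := by
    rw [relIndex, index_eq_two_iff']
    refine ⟨⟨⟨x, hxH⟩, hxR⟩, fun r => ?_⟩
    simp only [mem_subgroupOf, Subgroup.coe_mul]
    by_cases hr : (((r : (R : Subgroup H)) : H) : G) ∈ B
    · right
      refine ⟨hr, fun h => hxB ?_⟩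
      simpa using B.mul_mem h (B.inv_mem hr)
    · left
      exact ⟨hB _ hxS _ (hRmem _ r.2) hxH (r : H).2 hxB hr, hr⟩
  have hu : orderOf (⟨x, hxH⟩ : H) = 2 := by rw [← Subgroup.orderOf_coe]; exact hx
  obtain ⟨N, hN, hN2, -⟩ := InvChar68.thompson_transfer R (B.subgroupOf H) hidx hu hxR
    fun g hg hgB => hcon g g.2 (hRmem _ hg) hgB
  exact pResidual_index_ne_two N hN2

end Cfsg.Agent.InvChar68.ZC
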