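import Cfsg.Agent.InvChar68.ZC.Basic
import Cfsg.Agent.BGUniq.LocalFrattini

/-!
# The odd subgroup attached to a Sylow 2-subgroup with a normal four group and 2-rank at least three
-/

set_option autoImplicit false
set_option linter.style.haveILetI false

namespace Cfsg.Agent.InvChar68.ZC

open Subgroup
open Cfsg.Agent.SigDown91 (IsBig gen le_gen orderOf_of_sq)

variable {G : Type*} [Group G] [Finite G]

/-- `O(C(i))`. -/
local notation "θ" => Cfsg.centralizerPPrimeCore (G := G) 2

/-- A Sylow 2-subgroup `S`, a central involution `z` of `S` and an involution `a ≠ z` generating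
with `z` a four group normalised by `S`. -/
structure Frame (S : Sylow 2 G) (z a : G) : Prop where
  zS : z ∈ (S : Subgroup G)
  aS : a ∈ (S : Subgroup G)
  oz : orderOf z = 2
  oa : orderOf a = 2
  ne : a ≠ z
  zc : ∀ s ∈ (S : Subgroup G), Commute s z
  ac : ∀ s ∈ (S : Subgroup G), s * a * s⁻¹ = a ∨ s * a * s⁻¹ = a * z

variable {S : Sylow 2 G} {z a : G}

omit [Finite G] in
theorem sq_of_orderOf {t : G} (ht : orderOf t = 2) : t ^ 2 = 1 := by rw [← ht, pow_orderOf_eq_one]

/-- `{1, a, z, az}`. -/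
abbrev four (a z : G) : Subgroup G := closure ({a, z} : Set G)

theorem isBig_four {a z : G} (ha : a ^ 2 = 1) (hz : z ^ 2 = 1) (ha1 : a ≠ 1) (hz1 : z ≠ 1)
    (hne : a ≠ z) (hc : Commute a z) : IsBig (four a z) := by
  have hel : Cfsg.IsElementaryAbelian 2 (four a z) := by
    refine isElementaryAbelian_closure ?_ ?_
    · rintro x (rfl | hx) y (rfl | hy)
      · rfl
      · rw [Set.mem_singleton_iff.mp hy]; exact hc
      · rw [Set.mem_singleton_iff.mp hx]; exact hc.symm
      · rw [Set.mem_singleton_iff.mp hx, Set.mem_singleton_iff.mp hy]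
    · rintro x (rfl | hx)
      · exact ha
      · rw [Set.mem_singleton_iff.mp hx]; exact hz
  obtain ⟨V, hV, hVle, -⟩ := SigDown91.exists_big (K := four a z) a z ha hz ha1 hz1 hne hc
    (subset_closure (by simp)) (subset_closure (by simp))
  exact ⟨hel, hV.2.trans (card_le_of_le hVle)⟩

theorem four_le {a z : G} {K : Subgroup G} (ha : a ∈ K) (hz : z ∈ K) : four a z ≤ K :=
  (closure_le K).mpr (by rintro x (rfl | hx); exacts [ha, (Set.mem_singleton_iff.mp hx) ▸ hz])

namespace Frame

theorem za (F : Frame S z a) : Commute a z := F.zc a F.aS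

theorem isBig (F : Frame S z a) : IsBig (four a z) :=
  isBig_four (sq_of_orderOf F.oa) (sq_of_orderOf F.oz) (fun h => by simpa [h] using F.oa)
    (fun h => by simpa [h] using F.oz) F.ne F.za

theorem four_leS (F : Frame S z a) : four a z ≤ (S : Subgroup G) := four_le F.aS F.zS

/-- Two elements of `S` moving `a` have product in `C(a)`. -/
theorem mul_mem_centralizer (F : Frame S z a) {p q : G} (hp : p ∈ (S : Subgroup G))
    (hq : q ∈ (S : Subgroup G)) (hpa : p ∉ centralizer ({a} : Set G))
    (hqa : q ∉ centralizer ({a} : Set G)) : p * q ∈ centralizer ({a} : Set G) := by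
  have hp' := (F.ac p hp).resolve_left fun h => hpa (mem_centralizer_singleton_iff.mpr
    (mul_inv_eq_iff_eq_mul.mp h))
  have hq' := (F.ac q hq).resolve_left fun h => hqa (mem_centralizer_singleton_iff.mpr
    (mul_inv_eq_iff_eq_mul.mp h))
  refine mem_centralizer_singleton_iff.mpr (mul_inv_eq_iff_eq_mul.mp ?_)
  calc p * q * a * (p * q)⁻¹ = p * (q * a * q⁻¹) * p⁻¹ := by group
    _ = p * (a * z) * p⁻¹ := by rw [hq']
    _ = (p * a * p⁻¹) * (p * z * p⁻¹) := by group
    _ = a * z * z := by rw [hp', mul_inv_eq_iff_eq_mul.mpr (F.zc p hp).eq]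
    _ = a := by rw [mul_assoc, ← pow_two, sq_of_orderOf F.oz, mul_one]

theorem card_le_two_mul (F : Frame S z a) {E : Subgroup G} (hE : E ≤ (S : Subgroup G)) :
    Nat.card E ≤ 2 * Nat.card (E ⊓ centralizer ({a} : Set G) : Subgroup G) := by
  set C := centralizer ({a} : Set G)
  have hidx : (C.subgroupOf E).index ≤ 2 := by
    by_cases h : ∀ e ∈ E, e ∈ C
    · rw [show C.subgroupOf E = ⊤ from subgroupOf_eq_top.mpr h, index_top]
      norm_num
    · push Not at h
      obtain ⟨e, he, heC⟩ := h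
      refine le_of_eq (index_eq_two_iff'.mpr ⟨⟨e, he⟩, fun b => ?_⟩)
      simp only [mem_subgroupOf, Subgroup.coe_mul]
      by_cases hb : (b : G) ∈ C
      · right
        refine ⟨hb, fun hh => heC ?_⟩
        simpa using C.mul_mem hh (C.inv_mem hb)
      · left
        exact ⟨F.mul_mem_centralizer (hE he) (hE b.2) heC hb, hb⟩
  have h := (C.subgroupOf E).card_mul_index
  have e : Nat.card (C.subgroupOf E) = Nat.card (E ⊓ C : Subgroup G) := by
    rw [← Nat.card_congr (subgroupOfEquivOfLe (inf_le_left : E ⊓ C ≤ E)).toEquiv,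
      inf_subgroupOf_left]
  rw [← h, e, mul_comm]
  exact Nat.mul_le_mul_right _ hidx

/-- All elementary subgroups of order at least eight of `S` give the same subgroup as the four group. -/
theorem gen_eq (F : Frame S z a) (hC : SolvCent G) {E : Subgroup G} (hES : E ≤ (S : Subgroup G))
    (hE : Big8 E) :
    gen E = gen (four a z) ∧ ∃ E1 ≤ (S : Subgroup G), Big8 E1 ∧ a ∈ E1 ∧ z ∈ E1 := by
  set D := E ⊓ centralizer ({a} : Set G) with hD
  have h4 : 4 ≤ Nat.card D := by
    have h2 : Nat.card E ≤ 2 * Nat.card D := F.card_le_two_mul hES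
    have := hE.2
    omega
  have haD : ∀ d ∈ D, Commute d a := fun d hd => mem_centralizer_singleton_iff.mp hd.2
  have h1 : Cfsg.IsElementaryAbelian 2 (D ⊔ zpowers a ⊔ zpowers z) := by
    refine isElementaryAbelian_insert (isElementaryAbelian_insert
      (isElementaryAbelian_le hE.1 inf_le_left) (sq_of_orderOf F.oa) haD) (sq_of_orderOf F.oz) ?_
    intro e he
    exact F.zc e ((sup_le (inf_le_left.trans hES) (zpowers_le.mpr F.aS)) he)
  set E1 := D ⊔ zpowers a ⊔ zpowers z with hE1
  have hE1S : E1 ≤ (S : Subgroup G) :=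
    sup_le (sup_le (inf_le_left.trans hES) (zpowers_le.mpr F.aS)) (zpowers_le.mpr F.zS)
  have haE1 : a ∈ E1 := mem_sup_left (mem_sup_right (mem_zpowers a))
  have hzE1 : z ∈ E1 := mem_sup_right (mem_zpowers z)
  have hgD : gen E = gen D := gen_eq_of_le hC hE.1 inf_le_left h4
  have hgU : gen E1 = gen (four a z) := gen_eq_of_le hC h1 (four_le haE1 hzE1) F.isBig.2
  have hD1 : D ≤ E1 := le_sup_left.trans le_sup_left
  by_cases h8 : 8 ≤ Nat.card E1
  · exact ⟨by rw [hgD, ← gen_eq_of_le hC h1 hD1 h4, hgU], E1, hE1S, ⟨h1, h8⟩, haE1, hzE1⟩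
  · have hc : Nat.card E1 ≤ 4 := by
      by_contra hcon
      exact h8 (eight_le_of_four_lt h1 (by omega))
    have heq : D = E1 := Subgroup.eq_of_le_of_card_ge hD1 (by omega)
    exact ⟨by rw [hgD, heq, hgU], E, hES, hE, (heq ▸ haE1 : a ∈ D).1, (heq ▸ hzE1 : z ∈ D).1⟩

end Frame

/-- The hypotheses of the generic case. -/
structure Data (S : Sylow 2 G) (z a : G) : Prop where
  frame : Frame S z a
  solv : SolvCent G
  rank : ∃ E ≤ (S : Subgroup G), Big8 E
  cz : centralizer ({z} : Set G) ≤ normalizer ((S : Subgroup G) : Set G) ∨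
    ∀ s ∈ (S : Subgroup G), Commute s a

namespace Data

variable (D : Data S z a)
include D

/-- An elementary subgroup of order at least eight containing the four group. -/
theorem exists_top : ∃ E1 ≤ (S : Subgroup G), Big8 E1 ∧ a ∈ E1 ∧ z ∈ E1 := by
  obtain ⟨E, hES, hE⟩ := D.rank
  exact (D.frame.gen_eq D.solv hES hE).2

theorem odd_gen : Odd (Nat.card (gen (four a z))) := by
  obtain ⟨E, hES, hE⟩ := D.rank
  rw [← (D.frame.gen_eq D.solv hES hE).1]
  exact (gen_facts D.solv hE).1

theorem gen_inf_z : gen (four a z) ⊓ centralizer ({z} : Set G) ≤ θ z := by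
  obtain ⟨E, hES, hE, -, hz⟩ := D.exists_top
  rw [← (D.frame.gen_eq D.solv hES hE).1]
  exact (gen_facts D.solv hE).2 z hz fun h => by simpa [h] using D.frame.oz

theorem mem_normalizer {E : Subgroup G} (hE : Big8 E) (hES : E ≤ (S : Subgroup G)) {g : G}
    (hg : E.map (MulAut.conj g).toMonoidHom ≤ (S : Subgroup G)) :
    g ∈ normalizer ((gen (four a z) : Subgroup G) : Set G) := by
  have h2 : Big8 (E.map (MulAut.conj g).toMonoidHom) := by
    refine ⟨⟨⟨⟨?_⟩⟩, ?_⟩, by rw [card_map_of_injective (MulAut.conj g).injective]; exact hE.2⟩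
    · rintro ⟨_, x, hx, rfl⟩ ⟨_, y, hy, rfl⟩
      refine Subtype.ext ?_
      simp only [Subgroup.coe_mul]
      rw [← map_mul, ← map_mul, (comm_of_mem hE.1 hx hy).eq]
    · rintro _ ⟨x, hx, rfl⟩
      rw [← map_pow, hE.1.2 x hx, map_one]
  rw [mem_normalizer_iff_map_conj_eq]
  have h := gen_map g E
  rw [(D.frame.gen_eq D.solv hES hE).1, (D.frame.gen_eq D.solv hg h2).1] at h
  exact h.symm

theorem normalizer_le :
    normalizer ((S : Subgroup G) : Set G) ≤ normalizer ((gen (four a z) : Subgroup G) : Set G) := by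
  intro g hg
  obtain ⟨E, hES, hE⟩ := D.rank
  refine D.mem_normalizer hE hES ?_
  rw [← mem_normalizer_iff_map_conj_eq.mp hg]
  exact Subgroup.map_mono hES

theorem le_normalizer' :
    (S : Subgroup G) ≤ normalizer ((gen (four a z) : Subgroup G) : Set G) :=
  Subgroup.le_normalizer.trans D.normalizer_le

/-- An involution in an elementary subgroup of order at least eight of `S`. -/
theorem good {E : Subgroup G} (hE : Big8 E) (hES : E ≤ (S : Subgroup G)) {t : G} (htE : t ∈ E)
    (ht : orderOf t = 2) :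
    θ t ≤ gen (four a z) ∧
      centralizer ({t} : Set G) ≤ normalizer ((gen (four a z) : Subgroup G) : Set G) := by
  haveI : Fact (Nat.Prime 2) := ⟨Nat.prime_two⟩
  set W := gen (four a z) with hW
  set M := normalizer (W : Set G) with hM
  have hgE : ∀ {F : Subgroup G}, F ≤ (S : Subgroup G) → Big8 F → gen F = W := fun hF hF8 =>
    (D.frame.gen_eq D.solv hF hF8).1
  have ht1 : t ≠ 1 := fun h => by simpa [h] using ht
  have hθ : θ t ≤ W := (le_gen htE ht1).trans (hgE hES hE).le
  refine ⟨hθ, ?_⟩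
  set X := centralizer ({t} : Set G) with hXdef
  haveI : Group.IsSolvable X := D.solv t ht
  have hEX : E ≤ X := fun e he =>
    mem_centralizer_singleton_iff.mpr (comm_of_mem hE.1 he htE).eq
  have hEp : IsPGroup 2 (E.subgroupOf X) := (Signal38.isPGroup_of_elementary hE.1).comap_subtype
  obtain ⟨T, hET⟩ := hEp.exists_le_sylow
  obtain ⟨S', hS'⟩ := (T.isPGroup'.map X.subtype).exists_le_sylow
  obtain ⟨h, hh⟩ := MulAction.exists_smul_eq G S S'
  have hS'mem : ∀ y, y ∈ (S' : Subgroup G) ↔ h⁻¹ * y * h ∈ (S : Subgroup G) := by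
    intro y
    rw [← hh, Sylow.coe_subgroup_smul, mem_pointwise_smul_iff_inv_smul_mem]
    simp [MulAut.smul_def, mul_assoc]
  have hES' : E ≤ (S' : Subgroup G) := fun e he => hS' ⟨⟨e, hEX he⟩, hET he, rfl⟩
  have hhM : h ∈ M := by
    have hh' : h⁻¹ ∈ M := D.mem_normalizer hE hES (by
      rw [map_conj_le_iff]
      intro e he
      rw [inv_inv]
      exact (hS'mem e).mp (hES' he))
    simpa using inv_mem hh'
  -- every elementary subgroup of order at least eight of `S'` gives `W`
  have hgE' : ∀ {F : Subgroup G}, F ≤ (S' : Subgroup G) → Big8 F → gen F = W := by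
    intro F hF hF8
    have h1 : F.map (MulAut.conj h⁻¹).toMonoidHom ≤ (S : Subgroup G) := by
      rw [map_conj_le_iff]
      intro f hf
      rw [inv_inv]
      exact (hS'mem f).mp (hF hf)
    have h8 : Big8 (F.map (MulAut.conj h⁻¹).toMonoidHom) := by
      refine ⟨⟨⟨⟨?_⟩⟩, ?_⟩, by rw [card_map_of_injective (MulAut.conj h⁻¹).injective]; exact hF8.2⟩
      · rintro ⟨_, x, hx, rfl⟩ ⟨_, y, hy, rfl⟩
        refine Subtype.ext ?_
        simp only [Subgroup.coe_mul]
        rw [← map_mul, ← map_mul, (comm_of_mem hF8.1 hx hy).eq]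
      · rintro _ ⟨x, hx, rfl⟩
        rw [← map_pow, hF8.1.2 x hx, map_one]
    have h2 := hgE h1 h8
    rw [gen_map, ← mem_normalizer_iff_map_conj_eq.mp (inv_mem hhM : h⁻¹ ∈ M)] at h2
    exact Subgroup.map_injective (MulAut.conj h⁻¹).injective h2
  -- a second central involution of `S'`
  by_cases hspec : centralizer ({z} : Set G) ≤ normalizer ((S : Subgroup G) : Set G) ∧
      t = h * z * h⁻¹
  · intro g hg
    have h1 : h⁻¹ * g * h ∈ centralizer ({z} : Set G) := by
      rw [mem_centralizer_singleton_iff]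
      have hg' := mem_centralizer_singleton_iff.mp hg
      rw [hspec.2] at hg'
      calc h⁻¹ * g * h * z = h⁻¹ * (g * (h * z * h⁻¹)) * h := by group
        _ = h⁻¹ * (h * z * h⁻¹ * g) * h := by rw [hg']
        _ = _ := by group
    have h2 : g = h * (h⁻¹ * g * h) * h⁻¹ := by group
    rw [h2]
    exact mul_mem (mul_mem hhM (D.normalizer_le (hspec.1 h1))) (inv_mem hhM)
  obtain ⟨c, hcS, hco, hcc, hct⟩ : ∃ c ∈ (S : Subgroup G), orderOf c = 2 ∧
      (∀ s ∈ (S : Subgroup G), Commute s c) ∧ h * c * h⁻¹ ≠ t := by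
    by_cases hzt : h * z * h⁻¹ = t
    · refine ⟨a, D.frame.aS, D.frame.oa,
        D.cz.resolve_left (fun hz => hspec ⟨hz, hzt.symm⟩), fun hat => D.frame.ne ?_⟩
      exact mul_left_cancel (mul_right_cancel (hat.trans hzt.symm))
    · exact ⟨z, D.frame.zS, D.frame.oz, D.frame.zc, hzt⟩
  set z' := h * c * h⁻¹ with hz'
  have hz'o : orderOf z' = 2 := by
    rw [← hco]; exact orderOf_injective (MulAut.conj h).toMonoidHom (MulAut.conj h).injective c
  have hz'c : ∀ y ∈ (S' : Subgroup G), Commute y z' := by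
    intro y hy
    have h3 := hcc _ ((hS'mem y).mp hy)
    show y * z' = z' * y
    calc y * z' = h * (h⁻¹ * y * h * c) * h⁻¹ := by rw [hz']; group
      _ = h * (c * (h⁻¹ * y * h)) * h⁻¹ := by rw [h3.eq]
      _ = z' * y := by rw [hz']; group
  have hz'S : z' ∈ (S' : Subgroup G) := (hS'mem z').mpr (by
    rw [hz', show h⁻¹ * (h * c * h⁻¹) * h = c by group]
    exact hcS)
  have hz'X : z' ∈ X := mem_centralizer_singleton_iff.mpr (hz'c t (hES' htE)).eq.symm
  -- the Frattini argument inside `X`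
  have hST : (S' : Subgroup G).subgroupOf X = (T : Subgroup X) :=
    T.3 S'.isPGroup'.comap_subtype fun y hy => hS' ⟨y, hy, rfl⟩
  set P := (T : Subgroup X) ⊓ Cfsg.pPrimePCore 2 X with hP
  have hzT : (⟨z', hz'X⟩ : X) ∈ (T : Subgroup X) := hST ▸ hz'S
  have htX : t ∈ X := mem_centralizer_singleton_iff.mpr rfl
  have htT : (⟨t, htX⟩ : X) ∈ (T : Subgroup X) := hST ▸ hES' htE
  have hzP : (⟨z', hz'X⟩ : X) ∈ P := ⟨hzT, BGUniq.sylow_inf_centralizer_le T hzT
    (mem_centralizer_iff.mpr fun u hu => Subtype.ext (hz'c _ (hST.symm ▸ hu.1 : u ∈ _)).eq)⟩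
  have htP : (⟨t, htX⟩ : X) ∈ P := ⟨htT, BGUniq.sylow_inf_centralizer_le T htT
    (mem_centralizer_iff.mpr fun u _ => Subtype.ext (mem_centralizer_singleton_iff.mp u.2))⟩
  have hPS' : ∀ u ∈ P, (u : G) ∈ (S' : Subgroup G) := fun u hu => (hST.symm ▸ hu.1 : u ∈ _)
  intro g hg
  have hg' : (⟨g, hg⟩ : X) ∈ Cfsg.pPrimeCore 2 X ⊔ normalizer (P : Set X) :=
    (BGUniq.pPrimeCore_sup_normalizer_inf_pPrimePCore T).symm ▸ mem_top _
  rw [mem_sup_of_normal_left] at hg'
  obtain ⟨d, hd, n, hn, hdn⟩ := hg'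
  have hgdn : g = (d : G) * (n : G) := by
    have := congrArg Subtype.val hdn
    simpa using this.symm
  rw [hgdn]
  refine mul_mem (Subgroup.le_normalizer (hθ ⟨d, hd, rfl⟩)) ?_
  -- `n` normalises `W`
  have hnt : (n : G) * t * (n : G)⁻¹ = t :=
    mul_inv_eq_iff_eq_mul.mpr (mem_centralizer_singleton_iff.mp n.2)
  set z'' := (n : G) * z' * (n : G)⁻¹ with hz''
  have hz''S : z'' ∈ (S' : Subgroup G) := hPS' _ ((Subgroup.mem_normalizer_iff.mp hn _).mp hzP)
  have hz''o : orderOf z'' = 2 := by
    rw [← hz'o]; exact orderOf_injective (MulAut.conj (n : G)).toMonoidHom (MulAut.conj (n : G)).injective z'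
  have hz''t : Commute t z'' := by
    show t * z'' = z'' * t
    calc t * z'' = (n : G) * (t * z') * (n : G)⁻¹ := by
          rw [hz'']
          conv_lhs => rw [← hnt]
          group
      _ = (n : G) * (z' * t) * (n : G)⁻¹ := by rw [(hz'c t (hES' htE)).eq]
      _ = z'' * t := by
          rw [hz'']
          conv_rhs => enter [2]; rw [← hnt]
          group
  have hne : t ≠ z' := fun hh' => hct hh'.symm
  have hV : IsBig (four t z') := isBig_four (sq_of_orderOf ht) (sq_of_orderOf hz'o) ht1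
    (fun hh' => by simpa [hh'] using hz'o) hne (hz'c t (hES' htE))
  have hgenV : gen (four t z') = W := by
    have h8 : Big8 (E ⊔ zpowers z') := by
      refine ⟨isElementaryAbelian_insert hE.1 (sq_of_orderOf hz'o) fun e he => hz'c e (hES' he), ?_⟩
      exact hE.2.trans (card_le_of_le le_sup_left)
    rw [← gen_eq_of_le D.solv h8.1 (four_le (mem_sup_left htE) (mem_sup_right (mem_zpowers z'))) hV.2]
    exact hgE' (sup_le hES' (zpowers_le.mpr hz'S)) h8
  have hV1 : (four t z').map (MulAut.conj (n : G)).toMonoidHom = four t z'' := by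
    rw [MonoidHom.map_closure, Set.image_pair]
    simp [hnt, hz'']
  have hgenV1 : gen (four t z'') = W := by
    have hne' : t ≠ z'' := by
      intro hh'
      apply hne
      have h5 : (n : G) * t * (n : G)⁻¹ = (n : G) * z' * (n : G)⁻¹ := by rw [hnt]; exact hh'
      exact mul_left_cancel (mul_right_cancel h5)
    have hV' : IsBig (four t z'') := isBig_four (sq_of_orderOf ht) (sq_of_orderOf hz''o) ht1
      (fun hh' => by simpa [hh'] using hz''o) hne' hz''t
    by_cases hin : z'' ∈ four t z'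
    · have hle : four t z'' ≤ four t z' := four_le (subset_closure (by simp)) hin
      rw [← gen_eq_of_le D.solv hV.1 hle hV'.2, hgenV]
    · have h8 : Big8 (four t z' ⊔ zpowers z'') := by
        refine big8_insert hV (sq_of_orderOf hz''o) hin ?_
        have : four t z' ≤ centralizer ({z''} : Set G) := four_le
          (mem_centralizer_singleton_iff.mpr hz''t.eq)
          (mem_centralizer_singleton_iff.mpr (hz'c z'' hz''S).eq.symm)
        exact fun e he => mem_centralizer_singleton_iff.mp (this he)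
      rw [← gen_eq_of_le D.solv h8.1 (four_le (mem_sup_left (subset_closure (by simp)))
        (mem_sup_right (mem_zpowers z''))) hV'.2]
      exact hgE' (sup_le (four_le (hES' htE) hz'S) (zpowers_le.mpr hz''S)) h8
  rw [hM, mem_normalizer_iff_map_conj_eq]
  have h := gen_map (n : G) (four t z')
  rw [hV1, hgenV1, hgenV] at h
  exact h.symm

/-- Involutions of `S` commuting with `a`. -/
theorem good_of_commute {t : G} (htS : t ∈ (S : Subgroup G)) (ht : orderOf t = 2)
    (hta : Commute t a) :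
    ∃ E ≤ (S : Subgroup G), Big8 E ∧ t ∈ E := by
  by_cases h : t ∈ four a z
  · obtain ⟨E, hES, hE, ha, hz⟩ := D.exists_top
    exact ⟨E, hES, hE, four_le ha hz h⟩
  · refine ⟨four a z ⊔ zpowers t, sup_le D.frame.four_leS (zpowers_le.mpr htS),
      big8_insert D.frame.isBig (sq_of_orderOf ht) h ?_, mem_sup_right (mem_zpowers t)⟩
    have : four a z ≤ centralizer ({t} : Set G) := four_le
      (mem_centralizer_singleton_iff.mpr hta.eq.symm)
      (mem_centralizer_singleton_iff.mpr (D.frame.zc t htS).eq.symm)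
    exact fun e he => mem_centralizer_singleton_iff.mp (this he)

end Data

end Cfsg.Agent.InvChar68.ZC
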