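import Cfsg.Agent.InvChar68.ZC.Small
import Cfsg.Agent.InvChar68.CharTwoCyclicCenter

/-!
# All involutions of `S ∩ O²(G)` are fused to `z` in small rank; isolated involutions in large rank
-/

set_option autoImplicit false
set_option linter.style.haveILetI false

namespace Cfsg.Agent.InvChar68.ZC

open Subgroup
open Cfsg.Agent.SigDown91 (IsBig gen le_gen orderOf_of_sq)

variable {G : Type*} [Group G] [Finite G]

/-- `O(C(i))`. -/
local notation "θ" => Cfsg.centralizerPPrimeCore (G := G) 2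

/-- `O²(G)`. -/
local notation "H" => Cfsg.pResidual 2 G

variable {S : Sylow 2 G} {z a x : G}

omit [Finite G] in
theorem conj_mem_frattini {Q : Subgroup G} {g : G} (hg : g ∈ normalizer (Q : Set G)) {y : G}
    (hy : y ∈ (frattini ↥Q).map Q.subtype) : g * y * g⁻¹ ∈ (frattini ↥Q).map Q.subtype := by
  obtain ⟨u, hu, rfl⟩ := hy
  let φ : MulAut Q := Q.normalizerMonoidHom ⟨g, hg⟩
  refine ⟨φ u, ?_, rfl⟩
  have h := Subgroup.characteristic_iff_map_eq.1 (inferInstance : (frattini ↥Q).Characteristic) φ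
  rw [← h]
  exact Subgroup.mem_map_of_mem _ hu

namespace One

variable (O : One S z)
include O

theorem frame_of_normal_four {U : Subgroup (S : Subgroup G)} (hU : U.Normal) (hU4 : Nat.card U = 4)
    (hU2 : ∀ u ∈ U, u * u = 1) : ∃ a : G, Frame S z a := by
  haveI := hU
  haveI : Fact (Nat.Prime 2) := ⟨Nat.prime_two⟩
  have hne : U ≠ ⊥ := fun h => by rw [h, Subgroup.card_bot] at hU4; omega
  obtain ⟨c, hcU, hcc, hco⟩ := Involution.exists_central_mem_normal S.isPGroup' U hne
  have hcz : (c : G) = z := O.uniq c c.2 (by rw [Subgroup.orderOf_coe]; exact hco) fun s hs =>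
    congrArg Subtype.val (mem_center_iff.mp hcc ⟨s, hs⟩)
  obtain ⟨a, haU, ha1, hac⟩ := SigDown91.exists_ne_ne (K := U) hU4.ge c
  have hao : orderOf a = 2 := orderOf_of_sq (by rw [pow_two]; exact hU2 a haU) ha1
  have haz : (a : G) ≠ z := fun h => hac (Subtype.ext (h.trans hcz.symm))
  have hc : Commute (a : G) z := O.zc a a.2
  refine ⟨a, ⟨O.zS, a.2, O.oz, by rw [Subgroup.orderOf_coe]; exact hao, haz, O.zc, fun s hs => ?_⟩⟩
  have hV : four (a : G) z ≤ U.map (S : Subgroup G).subtype :=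
    four_le ⟨a, haU, rfl⟩ ⟨c, hcU, hcz⟩
  have hV4 : 4 ≤ Nat.card (four (a : G) z) := (isBig_four
    (sq_of_orderOf (by rw [Subgroup.orderOf_coe]; exact hao)) (sq_of_orderOf O.oz)
    (fun h => ha1 (Subtype.ext h)) (fun h => by simpa [h] using O.oz) haz hc).2
  have heq := Subgroup.eq_of_le_of_card_ge hV
    (by rw [card_map_of_injective (subtype_injective _), hU4]; exact hV4)
  have hmem : s * (a : G) * s⁻¹ ∈ four (a : G) z := by
    rw [heq]
    exact ⟨⟨s, hs⟩ * a * (⟨s, hs⟩)⁻¹, hU.conj_mem a haU _, rfl⟩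
  rcases four_cases (by rw [Subgroup.orderOf_coe]; exact hao) O.oz hc hmem with h | h | h | h
  · exfalso
    apply ha1
    apply Subtype.ext
    simpa using h
  · exact Or.inl h
  · exfalso
    apply haz
    have h2 : s * (a : G) * s⁻¹ = s * z * s⁻¹ :=
      h.trans (mul_inv_eq_iff_eq_mul.mpr (O.zc s hs).eq).symm
    exact mul_left_cancel (mul_right_cancel h2)
  · exact Or.inr h

theorem small_four {F : Frame S z a} (hno : ¬ ∃ E ≤ (S : Subgroup G), Big8 E) {w : G}
    (hw : w ∈ (S : Subgroup G)) (hwo : w ^ 2 = 1) (hwa : Commute w a) : w ∈ four a z :=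
  O.centralizer_involutions F.aS F.oa F.ne (fun E hE h8 _ => hno ⟨E, hE, h8⟩) hw hwo hwa

/-- In small rank, the noncentral involution of a normal four group is fused to `z`. -/
theorem four_fused (F : Frame S z a) (hno : ¬ ∃ E ≤ (S : Subgroup G), Big8 E) {v g₀ : G}
    (hvS : v ∈ (S : Subgroup G)) (hvz : v ≠ z) (hvH : v ∈ H) (hg₀ : g₀ * z * g₀⁻¹ = v)
    (haH : a ∈ H) : ∃ g : G, g * z * g⁻¹ = a := by
  haveI : Fact (Nat.Prime 2) := ⟨Nat.prime_two⟩
  by_contra hnot
  have hvo : orderOf v = 2 := by rw [← hg₀, conj_orderOf]; exact O.oz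
  have hac : Commute a z := F.za
  have haa : a * a = 1 := by rw [← pow_two]; exact sq_of_orderOf F.oa
  have hai : a⁻¹ = a := inv_eq_of_mul_eq_one_right haa
  have hvv : v * v = 1 := by rw [← pow_two]; exact sq_of_orderOf hvo
  have hvi : v⁻¹ = v := inv_eq_of_mul_eq_one_right hvv
  have hiso : ∀ y, Isolated S y := fun y E hE h8 _ => hno ⟨E, hE, h8⟩
  -- `v` moves `a`
  have hva : v * a * v⁻¹ = a * z := by
    rcases F.ac v hvS with h | h
    · exfalso
      rcases four_cases F.oa O.oz hac (O.small_four (F := F) hno hvS (sq_of_orderOf hvo)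
        (mul_inv_eq_iff_eq_mul.mp h)) with e | e | e | e
      · rw [e] at hvo; simp at hvo
      · exact hnot ⟨g₀, hg₀.trans e⟩
      · exact hvz e
      · -- a conjugate of `az` in `S` is `a`
        obtain ⟨s, hs, hsa⟩ : ∃ s ∈ (S : Subgroup G), s * a * s⁻¹ = a * z := by
          by_contra hcon
          push Not at hcon
          refine F.ne (O.uniq a F.aS F.oa fun s hs => ?_)
          exact mul_inv_eq_iff_eq_mul.mp ((F.ac s hs).resolve_right (hcon s hs))
        apply hnot
        refine ⟨s⁻¹ * g₀, ?_⟩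
        calc s⁻¹ * g₀ * z * (s⁻¹ * g₀)⁻¹ = s⁻¹ * (g₀ * z * g₀⁻¹) * s := by group
          _ = s⁻¹ * (s * a * s⁻¹) * s := by rw [hg₀, e, hsa]
          _ = a := by group
    · exact h
  have hav : a * v * a⁻¹ = v * z := by
    have h1 : v * a = a * z * v := mul_inv_eq_iff_eq_mul.mp hva
    rw [hai]
    calc a * v * a = a * (v * a) := by rw [mul_assoc]
      _ = a * a * (z * v) := by rw [h1]; group
      _ = v * z := by rw [haa, one_mul]; exact (O.zc v hvS).eq.symm
  set Q := (S : Subgroup G) ⊓ centralizer ({v} : Set G) with hQ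
  have hQS : Q ≤ (S : Subgroup G) := inf_le_left
  have hQp : IsPGroup 2 Q := S.isPGroup'.to_le hQS
  have hzQ : z ∈ Q := ⟨O.zS, mem_centralizer_singleton_iff.mpr (O.zc v hvS).eq.symm⟩
  have hvQ : v ∈ Q := ⟨hvS, mem_centralizer_singleton_iff.mpr rfl⟩
  have hcases : ∀ w ∈ Q, w ^ 2 = 1 → w = 1 ∨ w = v ∨ w = z ∨ w = v * z := fun w hw hw2 =>
    four_cases hvo O.oz (O.zc v hvS) (O.centralizer_involutions hvS hvo hvz (hiso v) hw.1 hw2
      (mem_centralizer_singleton_iff.mp hw.2))
  have haQ : a ∈ normalizer (Q : Set G) := by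
    have hconj : ∀ q ∈ Q, a * q * a⁻¹ ∈ Q := by
      intro q hq
      refine ⟨mul_mem (mul_mem F.aS hq.1) (Subgroup.inv_mem _ F.aS), mem_centralizer_singleton_iff.mpr ?_⟩
      -- it commutes with `vz` and with `z`
      have h1 : Commute (a * q * a⁻¹) (v * z) := by
        show a * q * a⁻¹ * (v * z) = v * z * (a * q * a⁻¹)
        rw [← hav]
        calc a * q * a⁻¹ * (a * v * a⁻¹) = a * (q * v) * a⁻¹ := by group
          _ = a * (v * q) * a⁻¹ := by rw [mem_centralizer_singleton_iff.mp hq.2]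
          _ = _ := by group
      have h2 : Commute (a * q * a⁻¹) z := O.zc _ (mul_mem (mul_mem F.aS hq.1) (inv_mem F.aS))
      have h3 : v * z * z = v := by rw [mul_assoc, ← pow_two, sq_of_orderOf O.oz, mul_one]
      have h4 := h1.mul_right h2
      rw [h3] at h4
      exact h4.eq
    rw [mem_normalizer_iff]
    refine fun q => ⟨hconj q, fun hq => ?_⟩
    have := hconj _ hq
    rw [show a * (a * q * a⁻¹) * a⁻¹ = (a * a) * q * (a * a)⁻¹ by group, haa] at this
    simpa using this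
  -- `a` acts trivially modulo `⟨z⟩`
  have hcomm : ∀ q ∈ Q, a * q * a⁻¹ * q⁻¹ = 1 ∨ a * q * a⁻¹ * q⁻¹ = z := by
    intro q hq
    have hqa : q * a⁻¹ * q⁻¹ = (q * a * q⁻¹)⁻¹ := by group
    rw [show a * q * a⁻¹ * q⁻¹ = a * (q * a⁻¹ * q⁻¹) by group, hqa]
    rcases F.ac q (hQS hq) with h | h
    · left; rw [h, mul_inv_cancel]
    · right
      rw [h, mul_inv_rev, hai, inv_eq_of_mul_eq_one_right
        (show z * z = 1 by rw [← pow_two]; exact sq_of_orderOf O.oz), ← mul_assoc, hac.eq,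
        mul_assoc, haa, mul_one]
  set Φ := (frattini ↥Q).map Q.subtype with hΦ
  by_cases hzΦ : z ∈ Φ
  · -- `a` and a conjugate generate a map cycling `z`, `v`, `vz`
    obtain ⟨T₂, hT₂, hT₂v, hlt⟩ := O.lt_conjugate hvS hvo hvz hg₀
    obtain ⟨g, hgv, hgz, hgQ⟩ := O.exists_swap hvS hvo hvz (hiso v) hT₂ hT₂v hlt
    have hatriv : ∀ q ∈ Q, a * q * a⁻¹ * q⁻¹ ∈ Φ := fun q hq => by
      rcases hcomm q hq with h | h <;> rw [h]
      exacts [one_mem _, hzΦ]
    set k := g * a * g⁻¹ with hk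
    have hkQ : k ∈ normalizer (Q : Set G) := mul_mem (mul_mem hgQ haQ) (inv_mem hgQ)
    have hktriv : ∀ q ∈ Q, k * q * k⁻¹ * q⁻¹ ∈ Φ := fun q hq => by
      have hq' : g⁻¹ * q * g ∈ Q := by
        have h0 := (mem_normalizer_iff.mp (inv_mem hgQ) q).mp hq
        rwa [inv_inv] at h0
      have h := conj_mem_frattini hgQ (hatriv _ hq')
      rw [show k * q * k⁻¹ * q⁻¹ = g * (a * (g⁻¹ * q * g) * a⁻¹ * (g⁻¹ * q * g)⁻¹) * g⁻¹ by
        rw [hk]; group]
      exact h
    set c := a * k with hc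
    have hcQ : c ∈ normalizer (Q : Set G) := mul_mem haQ hkQ
    have hctriv : ∀ q ∈ Q, c * q * c⁻¹ * q⁻¹ ∈ Φ := fun q hq => by
      rw [show c * q * c⁻¹ * q⁻¹ = (a * (k * q * k⁻¹ * q⁻¹) * a⁻¹) * (a * q * a⁻¹ * q⁻¹) by
        rw [hc]; group]
      exact mul_mem (conj_mem_frattini haQ (hktriv q hq)) (hatriv q hq)
    have hzz : z * z = 1 := by rw [← pow_two]; exact sq_of_orderOf O.oz
    have haz : a * z * a⁻¹ = z := mul_inv_eq_iff_eq_mul.mpr hac.eq
    have hgvz : g * (v * z) * g⁻¹ = z := by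
      rw [show g * (v * z) * g⁻¹ = (g * v * g⁻¹) * (g * z * g⁻¹) by group, hgv, hgz, ← mul_assoc,
        hvv, one_mul]
    have havz : a * (v * z) * a⁻¹ = v := by
      rw [show a * (v * z) * a⁻¹ = (a * v * a⁻¹) * (a * z * a⁻¹) by group, hav, haz, mul_assoc, hzz,
        mul_one]
    have hkv : k * v * k⁻¹ = z := by
      have hgv' : g⁻¹ * v * g = v := by
        calc g⁻¹ * v * g = g⁻¹ * (g * v * g⁻¹) * g := by rw [hgv]
          _ = v := by group
      rw [show k * v * k⁻¹ = g * (a * (g⁻¹ * v * g) * a⁻¹) * g⁻¹ by rw [hk]; group, hgv', hav, hgvz]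
    have hkvz : k * (v * z) * k⁻¹ = v * z := by
      rw [show k * (v * z) * k⁻¹ = g * (a * (g⁻¹ * (v * z) * g) * a⁻¹) * g⁻¹ by rw [hk]; group,
        show g⁻¹ * (v * z) * g = z by rw [← hgz]; group, haz, hgz]
    have hkz : k * z * k⁻¹ = v := by
      have h : k * (v * (v * z)) * k⁻¹ = v := by
        rw [show k * (v * (v * z)) * k⁻¹ = (k * v * k⁻¹) * (k * (v * z) * k⁻¹) by group, hkv, hkvz,
          ← mul_assoc, (O.zc v hvS).eq.symm, mul_assoc, hzz, mul_one]
      rwa [← mul_assoc v v z, hvv, one_mul] at h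
    have hc1 : c * z * c⁻¹ = v * z := by
      rw [show c * z * c⁻¹ = a * (k * z * k⁻¹) * a⁻¹ by rw [hc]; group, hkz, hav]
    have hc2 : c * (v * z) * c⁻¹ = v := by
      rw [show c * (v * z) * c⁻¹ = a * (k * (v * z) * k⁻¹) * a⁻¹ by rw [hc]; group, hkvz, havz]
    have hc3 : c * v * c⁻¹ = z := by
      rw [show c * v * c⁻¹ = a * (k * v * k⁻¹) * a⁻¹ by rw [hc]; group, hkv, haz]
    have hcube : c ^ 3 ∈ centralizer ({z} : Set G) := by
      rw [mem_centralizer_singleton_iff, ← mul_inv_eq_iff_eq_mul]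
      calc c ^ 3 * z * (c ^ 3)⁻¹ = c * (c * (c * z * c⁻¹) * c⁻¹) * c⁻¹ := by
            simp only [pow_succ, pow_zero, one_mul]; group
        _ = z := by rw [hc1, hc2, hc3]
    -- the odd part of `c` centralizes `Q`
    obtain ⟨m, r, hr, hmr⟩ := Nat.exists_eq_pow_mul_and_not_dvd (orderOf_pos c).ne' 2 (by norm_num)
    have hpow : c ^ 2 ^ m ∈ centralizer ({z} : Set G) := by
      have hcop : (Nat.card (zpowers (c ^ 2 ^ m))).Coprime (Nat.card (frattini ↥Q)) := by
        obtain ⟨j, hj⟩ := IsPGroup.iff_card.mp (hQp.to_subgroup (frattini ↥Q))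
        rw [Nat.card_zpowers, orderOf_pow' _ (pow_ne_zero _ two_ne_zero), hmr,
          Nat.gcd_eq_right (dvd_mul_right _ _), Nat.mul_div_cancel_left _ (Nat.two_pow_pos m), hj]
        exact (((Nat.prime_two.coprime_iff_not_dvd).mpr hr).symm).pow_right j
      have hn : zpowers (c ^ 2 ^ m) ≤ normalizer (Q : Set G) :=
        zpowers_le.mpr (pow_mem hcQ _)
      have htriv : ∀ n : ℕ, ∀ q ∈ Q, c ^ n * q * (c ^ n)⁻¹ * q⁻¹ ∈ Φ := by
        intro n
        induction n with
        | zero => intro q _; simp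
        | succ n ih =>
          intro q hq
          rw [pow_succ', show c * c ^ n * q * (c * c ^ n)⁻¹ * q⁻¹ =
            (c * (c ^ n * q * (c ^ n)⁻¹ * q⁻¹) * c⁻¹) * (c * q * c⁻¹ * q⁻¹) by group]
          exact mul_mem (conj_mem_frattini hcQ (ih q hq)) (hctriv q hq)
      have h := Coprime.le_centralizer_of_frattini (zpowers (c ^ 2 ^ m)) Q hn hcop (fun b hb q hq => by
        obtain ⟨n, rfl⟩ := (isOfFinOrder_of_finite (c ^ 2 ^ m)).mem_powers_iff_mem_zpowers.mpr hb
        rw [show (fun x => (c ^ 2 ^ m) ^ x) n = c ^ (2 ^ m * n) by rw [pow_mul]]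
        exact htriv _ q hq) (mem_zpowers _)
      exact centralizer_le (Set.singleton_subset_iff.mpr hzQ) h
    have hcz : c ∈ centralizer ({z} : Set G) := by
      obtain ⟨u, w, huw⟩ : IsCoprime ((2 : ℤ) ^ m) 3 :=
        IsCoprime.pow_left (Int.isCoprime_iff_gcd_eq_one.mpr (by decide))
      have e : c = (c ^ 2 ^ m) ^ u * (c ^ 3) ^ w := by
        rw [← zpow_natCast c (2 ^ m), ← zpow_natCast c 3, ← zpow_mul, ← zpow_mul, ← zpow_add]
        conv_lhs => rw [← zpow_one c]
        congr 1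
        push_cast
        linarith
      rw [e]
      exact mul_mem (zpow_mem hpow u) (zpow_mem hcube w)
    have : v * z = z := by
      rw [← hc1]; exact mul_inv_eq_iff_eq_mul.mpr (mem_centralizer_singleton_iff.mp hcz)
    rw [mul_eq_right] at this
    rw [this] at hvo
    simp at hvo
  · -- `Q` is the four group `⟨v, z⟩`
    have hΦ1 : ∀ q ∈ Q, q ^ 2 = 1 := by
      intro q hq
      by_contra hq2
      have hqΦ : q ^ 2 ∈ Φ := LocalEven62.pow_mem_frattini_map hQp hq
      obtain ⟨n, hn⟩ := IsPGroup.iff_orderOf.mp hQp ⟨q ^ 2, pow_mem hq 2⟩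
      rw [← Subgroup.orderOf_coe] at hn
      have hn0 : n ≠ 0 := fun h => hq2 (orderOf_eq_one_iff.mp (by rw [hn, h, pow_zero]))
      set w := (q ^ 2) ^ (2 ^ (n - 1)) with hw
      have hwo : orderOf w = 2 := by
        rw [hw, orderOf_pow' _ (by positivity), hn, Nat.gcd_eq_right (pow_dvd_pow 2 (by omega)),
          Nat.pow_div (by omega) (by norm_num), show n - (n - 1) = 1 by omega, pow_one]
      have hwΦ : w ∈ Φ := pow_mem hqΦ _
      apply hzΦ
      rcases hcases w (map_subtype_le _ hwΦ) (sq_of_orderOf hwo) with e | e | e | e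
      · rw [e] at hwo; simp at hwo
      · have h := mul_mem hwΦ (conj_mem_frattini haQ hwΦ)
        rwa [e, hav, ← mul_assoc, hvv, one_mul] at h
      · exact e ▸ hwΦ
      · have h := mul_mem (conj_mem_frattini haQ hwΦ) hwΦ
        have haz : a * z * a⁻¹ = z := mul_inv_eq_iff_eq_mul.mpr hac.eq
        rw [e, show a * (v * z) * a⁻¹ = (a * v * a⁻¹) * (a * z * a⁻¹) by group, hav, haz,
          mul_assoc v z z, ← pow_two z, sq_of_orderOf O.oz, mul_one, ← mul_assoc, hvv, one_mul] at h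
        exact h
    have hQcases : ∀ q ∈ Q, q ∈ four v z := fun q hq => by
      rcases hcases q hq (hΦ1 q hq) with e | e | e | e <;> rw [e]
      exacts [one_mem _, subset_closure (by simp), subset_closure (by simp),
        mul_mem (subset_closure (by simp)) (subset_closure (by simp))]
    have hQeq : Q = four v z := le_antisymm hQcases (four_le hvQ hzQ)
    have hQ4 : Nat.card (centralizer ({(⟨v, hvS⟩ : (S : Subgroup G))} : Set (S : Subgroup G))) = 4 := by
      have e : Q.subgroupOf (S : Subgroup G) = centralizer ({(⟨v, hvS⟩ : (S : Subgroup G))} : Set _) := by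
        ext q
        simp only [hQ, mem_subgroupOf, Subgroup.mem_inf, SetLike.coe_mem, true_and,
          mem_centralizer_singleton_iff, Subtype.ext_iff, Subgroup.coe_mul]
      rw [← e, Nat.card_congr (subgroupOfEquivOfLe hQS).toEquiv]
      classical
      have hV := isBig_four (sq_of_orderOf hvo) (sq_of_orderOf O.oz)
        (fun h => by simp [h] at hvo) (fun h => by simpa [h] using O.oz) hvz (O.zc v hvS)
      refine le_antisymm ?_ (hQeq ▸ hV.2)
      have hsub : (Q : Set G) ⊆ ({1, v, z, v * z} : Set G) := fun q hq => by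
        simpa using hcases q hq (hΦ1 q hq)
      have h := Set.ncard_le_ncard hsub (Set.toFinite _)
      have h2 := Set.ncard_insert_le (1 : G) ({v, z, v * z} : Set G)
      have h3 := Set.ncard_insert_le v ({z, v * z} : Set G)
      have h4 := Set.ncard_insert_le z ({v * z} : Set G)
      rw [Set.ncard_singleton] at h4
      rw [← Nat.card_coe_set_eq] at h
      change Nat.card Q ≤ _ at h
      omega
    -- `Q` has index two in `S`
    have h8 : 4 < Nat.card (S : Subgroup G) := by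
      have h1 := Subgroup.card_le_card_group
        (centralizer ({(⟨v, hvS⟩ : (S : Subgroup G))} : Set (S : Subgroup G)))
      rw [hQ4] at h1
      refine lt_of_le_of_ne h1 fun h => ?_
      have heq := Subgroup.eq_top_of_card_eq _ (hQ4.trans h)
      refine hvz (O.uniq v hvS hvo fun s hs => ?_)
      have hm : (⟨s, hs⟩ : (S : Subgroup G)) ∈
          centralizer ({(⟨v, hvS⟩ : (S : Subgroup G))} : Set (S : Subgroup G)) := heq ▸ mem_top _
      exact congrArg Subtype.val (mem_centralizer_singleton_iff.mp hm)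
    have hvo' : orderOf (⟨v, hvS⟩ : (S : Subgroup G)) = 2 := by rw [← Subgroup.orderOf_coe]; exact hvo
    obtain ⟨r, hr, hvr⟩ := InvChar68.exists_cyclic_index_two (Nat.card (S : Subgroup G)) le_rfl
      S.isPGroup' hvo' hQ4 h8
    have haS := F.aS
    have har : (⟨a, haS⟩ : (S : Subgroup G)) ∉ zpowers r := by
      intro har
      apply F.ne
      refine O.uniq a F.aS F.oa fun s hs => ?_
      haveI := normal_of_index_eq_two hr
      have hm := ‹(zpowers r).Normal›.conj_mem _ har ⟨s, hs⟩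
      have ho : orderOf (⟨a, haS⟩ : (S : Subgroup G)) = 2 := by
        rw [← Subgroup.orderOf_coe]; exact F.oa
      have hu := Cfsg.Agent.InvChar68.CyclicCenter.involution_unique (Z := ↥(zpowers r)) inferInstance
        (a := ⟨_, hm⟩) (b := ⟨_, har⟩)
        (by rw [← Subgroup.orderOf_coe]; exact (conj_orderOf _ _).trans ho)
        (by rw [← Subgroup.orderOf_coe]; exact ho)
      exact mul_inv_eq_iff_eq_mul.mp
        (congrArg (fun y : ↥(zpowers r) => ((y : (S : Subgroup G)) : G)) hu)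
    obtain ⟨i, hi⟩ : ∃ i : ℤ, r ^ i = (⟨v, hvS⟩ : (S : Subgroup G)) * ⟨a, haS⟩ :=
      mem_zpowers_iff.mp ((mul_mem_iff_of_index_two hr).mpr (iff_of_false hvr har))
    set ρ : G := (r : G) with hρ
    have hρS : ρ ∈ (S : Subgroup G) := r.2
    have hva' : v = ρ ^ i * a := by
      have h := congrArg Subtype.val hi
      simp only [coe_zpow, Subgroup.coe_mul] at h
      rw [hρ, h, mul_assoc, haa, mul_one]
    have hra : Commute (ρ * ρ) a := by
      have hne : ∀ {p : G}, p ∈ (S : Subgroup G) → p * p * a * (p * p)⁻¹ = a := by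
        intro p hp
        rw [show p * p * a * (p * p)⁻¹ = p * (p * a * p⁻¹) * p⁻¹ by group]
        rcases F.ac p hp with h | h
        · rw [h, h]
        · rw [h, show p * (a * z) * p⁻¹ = (p * a * p⁻¹) * (p * z * p⁻¹) by group, h,
            mul_inv_eq_iff_eq_mul.mpr (O.zc p hp).eq, mul_assoc, ← pow_two, sq_of_orderOf O.oz,
            mul_one]
      exact mul_inv_eq_iff_eq_mul.mp (hne hρS)
    have hrv : Commute (ρ * ρ) v := by
      rw [hva']
      exact Commute.mul_right ((Commute.zpow_right (Commute.refl ρ) i).mul_left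
        (Commute.zpow_right (Commute.refl ρ) i)) hra
    have hr4 : (ρ * ρ) ^ 2 = 1 :=
      hΦ1 _ ⟨mul_mem hρS hρS, mem_centralizer_singleton_iff.mpr hrv.eq⟩
    have hcardS : Nat.card (S : Subgroup G) ≤ 8 := by
      rw [← (zpowers r).card_mul_index, hr, Nat.card_zpowers]
      have h4 : orderOf r ∣ 4 := orderOf_dvd_of_pow_eq_one (Subtype.ext (by
        rw [SubmonoidClass.coe_pow, OneMemClass.coe_one, show 4 = 2 * 2 from rfl, pow_mul, pow_two (r : G)]
        exact hr4))
      have := Nat.le_of_dvd (by norm_num) h4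
      omega
    obtain ⟨h, -, hhS, hhQ⟩ := exists_conj_mem S (B := Q) F.aS haH F.oa
      (fun hin => by
        rcases hcases a hin (sq_of_orderOf F.oa) with e | e | e | e
        · exact absurd (e ▸ F.oa) (by simp)
        · exact hnot ⟨g₀, hg₀.trans e.symm⟩
        · exact F.ne e
        · rw [e] at hva
          have h5 : v * (v * z) * v⁻¹ = v * z := by
            rw [show v * (v * z) * v⁻¹ = v * (v * z * v⁻¹) by group,
              show v * z * v⁻¹ = z from mul_inv_eq_iff_eq_mul.mpr (O.zc v hvS).eq]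
          rw [h5] at hva
          have : z = 1 := mul_left_cancel (hva.symm.trans (mul_one _).symm)
          exact absurd (this ▸ O.oz) (by simp))
      (fun p hp q hq _ _ hpQ hqQ => by
        -- `Q` has index two in `S`
        have hidx : (Q.subgroupOf (S : Subgroup G)).index = 2 := by
          have h := (Q.subgroupOf (S : Subgroup G)).card_mul_index
          have e : Nat.card (Q.subgroupOf (S : Subgroup G)) = 4 := by
            rw [show Q.subgroupOf (S : Subgroup G) =
              centralizer ({(⟨v, hvS⟩ : (S : Subgroup G))} : Set _) from by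
                ext q
                simp only [hQ, mem_subgroupOf, Subgroup.mem_inf, SetLike.coe_mem, true_and,
                  mem_centralizer_singleton_iff, Subtype.ext_iff, Subgroup.coe_mul]]
            exact hQ4
          rw [e] at h
          have : (Q.subgroupOf (S : Subgroup G)).index ≤ 2 := by omega
          have : (Q.subgroupOf (S : Subgroup G)).index ≠ 1 := fun h1 => by omega
          have : (Q.subgroupOf (S : Subgroup G)).index ≠ 0 := FiniteIndex.index_ne_zero
          omega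
        exact (mul_mem_iff_of_index_two hidx (a := ⟨p, hp⟩) (b := ⟨q, hq⟩)).mpr
          (iff_of_false hpQ hqQ))
    have hho : orderOf (h * a * h⁻¹) = 2 := by rw [conj_orderOf]; exact F.oa
    apply hnot
    rcases hcases _ hhQ (sq_of_orderOf hho) with e | e | e | e
    · rw [e] at hho; simp at hho
    · refine ⟨h⁻¹ * g₀, ?_⟩
      calc h⁻¹ * g₀ * z * (h⁻¹ * g₀)⁻¹ = h⁻¹ * (g₀ * z * g₀⁻¹) * h := by group
        _ = a := by rw [hg₀, ← e]; group
    · refine ⟨h⁻¹, ?_⟩
      calc h⁻¹ * z * h⁻¹⁻¹ = h⁻¹ * (h * a * h⁻¹) * h⁻¹⁻¹ := by rw [e]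
        _ = a := by group
    · refine ⟨h⁻¹ * (a * g₀), ?_⟩
      calc h⁻¹ * (a * g₀) * z * (h⁻¹ * (a * g₀))⁻¹
          = h⁻¹ * (a * (g₀ * z * g₀⁻¹) * a⁻¹) * h := by group
        _ = h⁻¹ * (h * a * h⁻¹) * h := by rw [hg₀, hav, e]
        _ = a := by group

/-- In small rank all involutions of `S ∩ O²(G)` are conjugate to `z`. -/
theorem conj_of_small (hno : ¬ ∃ E ≤ (S : Subgroup G), Big8 E) (hzH : z ∈ H) {v g₀ : G}
    (hvS : v ∈ (S : Subgroup G)) (hvz : v ≠ z) (hvH : v ∈ H) (hg₀ : g₀ * z * g₀⁻¹ = v)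
    (hxS : x ∈ (S : Subgroup G)) (hxH : x ∈ H) (hx : orderOf x = 2) :
    ∃ g : G, g * z * g⁻¹ = x := by
  haveI : Fact (Nat.Prime 2) := ⟨Nat.prime_two⟩
  rcases eq_or_ne x z with rfl | hxz
  · exact ⟨1, by simp⟩
  have hxc : (⟨x, hxS⟩ : (S : Subgroup G)) ∉ center (S : Subgroup G) := fun h =>
    hxz (O.uniq x hxS hx fun s hs => congrArg Subtype.val (mem_center_iff.mp h ⟨s, hs⟩))
  rcases H40.exists_four_or_index_two S.isPGroup'
    (x := (⟨x, hxS⟩ : (S : Subgroup G))) (by rw [← Subgroup.orderOf_coe]; exact hx) hxc with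
    ⟨U, hU, hU4, hU2⟩ | ⟨B, hB, hxB, hBc⟩
  · obtain ⟨a, F⟩ := O.frame_of_normal_four hU hU4 hU2
    -- involutions commuting with `a`
    have hgood : ∀ w ∈ (S : Subgroup G), w ∈ H → orderOf w = 2 → Commute w a →
        ∃ g : G, g * z * g⁻¹ = w := by
      intro w hwS hwH hwo hwa
      rcases four_cases F.oa O.oz F.za (O.small_four (F := F) hno hwS (sq_of_orderOf hwo) hwa) with
        e | e | e | e
      · rw [e] at hwo; simp at hwo
      · rw [e] at hwH
        obtain ⟨g, hg⟩ := O.four_fused F hno hvS hvz hvH hg₀ hwH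
        exact ⟨g, hg.trans e.symm⟩
      · exact ⟨1, by simp [e]⟩
      · have haH : a ∈ H := by
          have h := mul_mem hwH hzH
          rwa [e, mul_assoc, ← pow_two, sq_of_orderOf O.oz, mul_one] at h
        obtain ⟨g, hg⟩ := O.four_fused F hno hvS hvz hvH hg₀ haH
        obtain ⟨s, hs, hsa⟩ : ∃ s ∈ (S : Subgroup G), s * a * s⁻¹ = a * z := by
          by_contra hcon
          push Not at hcon
          refine F.ne (O.uniq a F.aS F.oa fun s hs => ?_)
          exact mul_inv_eq_iff_eq_mul.mp ((F.ac s hs).resolve_right (hcon s hs))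
        refine ⟨s * g, ?_⟩
        rw [e, ← hsa, ← hg]
        group
    by_cases hxa : Commute x a
    · exact hgood x hxS hxH hx hxa
    obtain ⟨h, hh, hhS, hhC⟩ := exists_conj_mem S (B := centralizer ({a} : Set G)) hxS hxH hx
      (fun hin => hxa (mem_centralizer_singleton_iff.mp hin))
      (fun p hp q hq _ _ hpC hqC => F.mul_mem_centralizer hp hq hpC hqC)
    obtain ⟨g, hg⟩ := hgood _ hhS (mul_mem (mul_mem hh hxH) (inv_mem hh))
      (by rw [conj_orderOf]; exact hx) (mem_centralizer_singleton_iff.mp hhC)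
    refine ⟨h⁻¹ * g, ?_⟩
    calc h⁻¹ * g * z * (h⁻¹ * g)⁻¹ = h⁻¹ * (g * z * g⁻¹) * h := by group
      _ = x := by rw [hg]; group
  · obtain ⟨h, -, hhS, hhB⟩ := exists_conj_mem S (B := B.map (S : Subgroup G).subtype) hxS hxH hx
      (fun hin => by
        obtain ⟨y, hy, hyx⟩ := hin
        exact hxB ((Subtype.ext hyx : y = ⟨x, hxS⟩) ▸ hy))
      (fun p hp q hq _ _ hpB hqB =>
        ⟨⟨p, hp⟩ * ⟨q, hq⟩, (mul_mem_iff_of_index_two hB).mpr
          (iff_of_false (fun h => hpB ⟨_, h, rfl⟩) (fun h => hqB ⟨_, h, rfl⟩)), rfl⟩)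
    obtain ⟨y, hy, hyh⟩ := hhB
    have hyo : orderOf y = 2 := by
      rw [← Subgroup.orderOf_coe]
      exact (congrArg orderOf hyh).trans ((conj_orderOf h x).trans hx)
    have hyz : (y : G) = z := O.uniq y y.2 (by rw [Subgroup.orderOf_coe]; exact hyo) fun s hs =>
      congrArg Subtype.val (mem_center_iff.mp (hBc y hy hyo) ⟨s, hs⟩)
    refine ⟨h⁻¹, ?_⟩
    rw [← hyz, show (y : G) = h * x * h⁻¹ from hyh]
    group

/-- In large rank an isolated involution of `S ∩ O²(G)` is conjugate to `z`, and the signalizer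
subgroup is `O(C(z))`. -/
theorem isolated_case (D : Data S z a) (hxS : x ∈ (S : Subgroup G)) (hxH : x ∈ H)
    (hx : orderOf x = 2) (hiso : Isolated S x) :
    ∃ g : G, g * z * g⁻¹ = x ∧ gen (four a z) = θ z := by
  haveI : Fact (Nat.Prime 2) := ⟨Nat.prime_two⟩
  obtain ⟨E₁, hE₁S, hE₁, -, hzE₁⟩ := D.exists_top
  have hxz : x ≠ z := fun h => hiso E₁ hE₁S hE₁ (h ▸ hzE₁)
  have hxa : ¬ Commute x a := fun h => by
    obtain ⟨E, hES, hE, hin⟩ := D.good_of_commute hxS hx h
    exact hiso E hES hE hin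
  obtain ⟨h, hh, hhS, hhC⟩ := exists_conj_mem S (B := centralizer ({a} : Set G)) hxS hxH hx
    (fun hin => hxa (mem_centralizer_singleton_iff.mp hin))
    (fun p hp q hq _ _ hpC hqC => D.frame.mul_mem_centralizer hp hq hpC hqC)
  obtain ⟨E, hES, hE, hin⟩ := D.good_of_commute hhS (by rw [conj_orderOf]; exact hx)
    (mem_centralizer_singleton_iff.mp hhC)
  set T := (S : Subgroup G) ⊓ centralizer ({x} : Set G) with hT
  set C := centralizer ({x} : Set G) with hC
  have hTp : IsPGroup 2 (T.subgroupOf C) := (S.isPGroup'.to_le inf_le_left).comap_subtype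
  obtain ⟨P, hP⟩ := hTp.exists_le_sylow
  have hlt : T < (P : Subgroup C).map C.subtype := by
    refine lt_of_le_of_ne (fun y hy => ⟨⟨y, hy.2⟩, hP hy, rfl⟩) fun heq => ?_
    -- otherwise a large elementary subgroup through `x` lies in `S`
    set E' := E.map (MulAut.conj h⁻¹).toMonoidHom with hE'
    have hxE' : x ∈ E' := ⟨h * x * h⁻¹, hin, by simp [mul_assoc]⟩
    have hcomm : ∀ p ∈ E', ∀ q ∈ E', Commute p q := by
      rintro _ ⟨p, hp, rfl⟩ _ ⟨q, hq, rfl⟩
      exact (comm_of_mem hE.1 hp hq).map _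
    have hE'C : E' ≤ C := fun y hy => mem_centralizer_singleton_iff.mpr (hcomm y hy x hxE').eq
    have hE'p : IsPGroup 2 (E'.subgroupOf C) :=
      ((Signal38.isPGroup_of_elementary hE.1).map _).comap_subtype
    obtain ⟨P', hP'⟩ := hE'p.exists_le_sylow
    obtain ⟨c, hc⟩ := MulAction.exists_smul_eq C P' P
    have hcx : (c : G) * x * (c : G)⁻¹ = x :=
      mul_inv_eq_iff_eq_mul.mpr (mem_centralizer_singleton_iff.mp c.2)
    refine hiso (E'.map (MulAut.conj (c : G)).toMonoidHom) ?_ ⟨⟨⟨⟨?_⟩⟩, ?_⟩, ?_⟩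
      ⟨x, hxE', by simpa using hcx⟩
    · rintro _ ⟨y, hy, rfl⟩
      have h1 : c * ⟨y, hE'C hy⟩ * c⁻¹ ∈ (P : Subgroup C) := by
        rw [← hc]; exact ⟨_, hP' hy, rfl⟩
      have h2 : (c : G) * y * (c : G)⁻¹ ∈ (P : Subgroup C).map C.subtype := ⟨_, h1, rfl⟩
      rw [← heq] at h2
      exact h2.1
    · rintro ⟨_, p, hp, rfl⟩ ⟨_, q, hq, rfl⟩
      exact Subtype.ext ((hcomm p hp q hq).map _).eq
    · rintro _ ⟨_, ⟨p, hp, rfl⟩, rfl⟩
      rw [← map_pow, ← map_pow, hE.1.2 p hp, map_one, map_one]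
    · rw [card_map_of_injective (MulAut.conj (c : G)).injective, hE',
        card_map_of_injective (MulAut.conj h⁻¹).injective]
      exact hE.2
  obtain ⟨g, hg⟩ := O.conj_of_not_sylow hxS hx hxz hiso (P.isPGroup'.map C.subtype)
    (map_subtype_le _) hlt
  refine ⟨g, hg, ?_⟩
  -- the four group `⟨x, z⟩` shows that the signalizer subgroup is `O(C(z))`
  set W := gen (four a z) with hW
  refine le_antisymm ?_ ((le_gen (subset_closure (by simp)) fun h' => by
    simpa [h'] using O.oz : θ z ≤ W))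
  have hV := isBig_four (sq_of_orderOf hx) (sq_of_orderOf O.oz) (fun h' => by simp [h'] at hx)
    (fun h' => by simpa [h'] using O.oz) hxz (O.zc x hxS)
  have hVn : four x z ≤ normalizer (W : Set G) :=
    (four_le hxS O.zS).trans D.le_normalizer'
  -- centralizers of conjugates of `z` in `W`
  have hkey : ∀ b ∈ (S : Subgroup G), ∀ k : G, k * z * k⁻¹ = b →
      W ⊓ centralizer ({b} : Set G) ≤ θ z := by
    intro b hb k hk y hy
    refine D.gen_inf_z ⟨hy.1, ?_⟩
    -- `y` normalises `S'` and `z` lies in it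
    have hzb : z ∈ centralizer ({b} : Set G) := mem_centralizer_singleton_iff.mpr (O.zc b hb).eq.symm
    have hmem : ∀ u : G, u ∈ centralizer ({b} : Set G) →
        k⁻¹ * u * k ∈ normalizer ((S : Subgroup G) : Set G) := by
      intro u hu
      refine O.cz ?_
      have hu' := mem_centralizer_singleton_iff.mp hu
      rw [← hk] at hu'
      rw [mem_centralizer_singleton_iff]
      calc k⁻¹ * u * k * z = k⁻¹ * (u * (k * z * k⁻¹)) * k := by group
        _ = k⁻¹ * (k * z * k⁻¹ * u) * k := by rw [hu']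
        _ = _ := by group
    have hzS' : k⁻¹ * z * k ∈ (S : Subgroup G) := by
      refine mem_sylow_of_mem_normalizer S (hmem z hzb) (IsPGroup.of_card (n := 1) ?_)
      rw [Nat.card_zpowers, pow_one, show k⁻¹ * z * k = k⁻¹ * z * k⁻¹⁻¹ by group, conj_orderOf]
      exact O.oz
    have hS' : k⁻¹ * (y * z * y⁻¹ * z⁻¹) * k ∈ (S : Subgroup G) := by
      rw [show k⁻¹ * (y * z * y⁻¹ * z⁻¹) * k =
        ((k⁻¹ * y * k) * (k⁻¹ * z * k) * (k⁻¹ * y * k)⁻¹) * (k⁻¹ * z * k)⁻¹ by group]
      exact mul_mem (show _ ∈ (S : Subgroup G) from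
        (mem_normalizer_iff.mp (hmem y hy.2) _).mp hzS') (Subgroup.inv_mem _ hzS')
    have hWy : y * z * y⁻¹ * z⁻¹ ∈ W := by
      rw [show y * z * y⁻¹ * z⁻¹ = y * (z * y⁻¹ * z⁻¹) by group]
      exact mul_mem hy.1 ((mem_normalizer_iff.mp (D.le_normalizer' O.zS) _).mp (inv_mem hy.1))
    have h1 : y * z * y⁻¹ * z⁻¹ = 1 := by
      obtain ⟨n, hn⟩ := IsPGroup.iff_orderOf.mp S.isPGroup' ⟨_, hS'⟩
      rw [Subgroup.orderOf_mk] at hn
      have hn' : orderOf (y * z * y⁻¹ * z⁻¹) = 2 ^ n := by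
        rw [← hn, show k⁻¹ * (y * z * y⁻¹ * z⁻¹) * k = k⁻¹ * (y * z * y⁻¹ * z⁻¹) * k⁻¹⁻¹ by group,
          conj_orderOf]
      have hodd := D.odd_gen.of_dvd_nat (Subgroup.orderOf_dvd_natCard _ hWy)
      rw [hn'] at hodd
      rcases Nat.eq_zero_or_pos n with rfl | hpos
      · rwa [pow_zero, orderOf_eq_one_iff] at hn'
      · exact absurd hodd (Nat.not_odd_iff_even.mpr (Nat.even_pow.mpr ⟨even_two, hpos.ne'⟩))
    rw [mul_inv_eq_one, mul_inv_eq_iff_eq_mul] at h1
    exact mem_centralizer_singleton_iff.mpr h1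
  obtain ⟨g₁, -, hg₁, -⟩ := O.exists_swap hxS hx hxz hiso (P.isPGroup'.map C.subtype)
    (map_subtype_le _) hlt
  refine SFT45.le_of_forall_hyp hV.1 hVn (Nat.coprime_two_left.mpr D.odd_gen) fun B hB => ?_
  have h2 : 1 < Nat.card B := by
    have := hV.2
    have := hB.2
    omega
  obtain ⟨⟨b, hb⟩, hb1⟩ := (Subgroup.ne_bot_iff_exists_ne_one).mp
    ((one_lt_card_iff_ne_bot B).mp h2)
  have hb1' : b ≠ 1 := fun h' => hb1 (Subtype.ext h')
  refine le_trans (inf_le_inf_left _ (centralizer_le (Set.singleton_subset_iff.mpr hb))) ?_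
  rcases four_cases hx O.oz (O.zc x hxS) (hB.1 hb) with e | e | e | e
  · exact absurd e hb1'
  · rw [e]; exact hkey x hxS g hg
  · rw [e]; exact hkey z O.zS 1 (by simp)
  · rw [e]; exact hkey (x * z) (mul_mem hxS O.zS) g₁ hg₁

end One

end Cfsg.Agent.InvChar68.ZC
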