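import Cfsg.Agent.InvChar68.ZC.Frame
import Cfsg.Agent.H40.NormalFourInvolution
import Cfsg.Agent.InvChar68.MaximalClass
import Cfsg.Agent.LocalEven62.Frattini

/-!
# Fusion of involutions when `C(z) ≤ N(S)`
-/

set_option autoImplicit false
set_option linter.style.haveILetI false

namespace Cfsg.Agent.InvChar68.ZC

open Subgroup
open Cfsg.Agent.SigDown91 (IsBig gen le_gen orderOf_of_sq)

variable {G : Type*} [Group G] [Finite G]

/-- `O(C(i))`. -/
local notation "θ" => Cfsg.centralizerPPrimeCore (G := G) 2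

/-- A Sylow 2-subgroup `S` with a single central involution `z`, whose centralizer lies in `N(S)`. -/
structure One (S : Sylow 2 G) (z : G) : Prop where
  zS : z ∈ (S : Subgroup G)
  oz : orderOf z = 2
  zc : ∀ s ∈ (S : Subgroup G), Commute s z
  uniq : ∀ x ∈ (S : Subgroup G), orderOf x = 2 → (∀ s ∈ (S : Subgroup G), Commute s x) → x = z
  cz : centralizer ({z} : Set G) ≤ normalizer ((S : Subgroup G) : Set G)

/-- No elementary subgroup of order at least eight of `S` contains `x`. -/
def Isolated (S : Sylow 2 G) (x : G) : Prop :=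
  ∀ E : Subgroup G, E ≤ (S : Subgroup G) → Big8 E → x ∉ E

theorem mem_sylow_of_mem_normalizer (S : Sylow 2 G) {g : G}
    (hg : g ∈ normalizer ((S : Subgroup G) : Set G)) (h2 : IsPGroup 2 (zpowers g)) :
    g ∈ (S : Subgroup G) := by
  have h : IsPGroup 2 ↥(zpowers g ⊔ (S : Subgroup G)) :=
    h2.to_sup_of_normal_right' S.isPGroup' (zpowers_le.mpr hg)
  exact (S.3 h le_sup_right).le (mem_sup_left (mem_zpowers g))

variable {S : Sylow 2 G} {z x : G}

omit [Finite G] in
theorem conj_orderOf (g : G) (t : G) : orderOf (g * t * g⁻¹) = orderOf t :=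
  orderOf_injective (MulAut.conj g).toMonoidHom (MulAut.conj g).injective t

theorem orderOf_mul_commute {x z : G} (hx : orderOf x = 2) (hz : orderOf z = 2) (hne : x ≠ z)
    (hc : Commute x z) : orderOf (x * z) = 2 := by
  refine orderOf_of_sq ?_ ?_
  · rw [hc.mul_pow, sq_of_orderOf hx, sq_of_orderOf hz, one_mul]
  · intro h
    apply hne
    rw [mul_eq_one_iff_eq_inv] at h
    rw [h]
    exact inv_eq_of_mul_eq_one_right (by rw [← pow_two]; exact sq_of_orderOf hz)

namespace One

variable (O : One S z)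
include O

/-- The involutions of `C_S(x)` for an isolated `x`. -/
theorem centralizer_involutions (hxS : x ∈ (S : Subgroup G)) (hx : orderOf x = 2) (hxz : x ≠ z)
    (hiso : Isolated S x) {w : G} (hwS : w ∈ (S : Subgroup G)) (hw : w ^ 2 = 1)
    (hwx : Commute w x) : w ∈ four x z := by
  by_contra hin
  have hV := isBig_four (sq_of_orderOf hx) (sq_of_orderOf O.oz) (fun h => by simp [h] at hx)
    (fun h => by simpa [h] using O.oz) hxz (O.zc x hxS)
  refine hiso _ (sup_le (four_le hxS O.zS) (zpowers_le.mpr hwS)) (big8_insert hV hw hin ?_)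
    (mem_sup_left (subset_closure (by simp)))
  have : four x z ≤ centralizer ({w} : Set G) := four_le
    (mem_centralizer_singleton_iff.mpr hwx.eq.symm)
    (mem_centralizer_singleton_iff.mpr (O.zc w hwS).eq.symm)
  exact fun e he => mem_centralizer_singleton_iff.mp (this he)

omit O in
theorem four_cases {x z w : G} (hx : orderOf x = 2) (hz : orderOf z = 2) (hc : Commute x z)
    (hw : w ∈ four x z) : w = 1 ∨ w = x ∨ w = z ∨ w = x * z := by
  have hxx : x * x = 1 := by rw [← pow_two]; exact sq_of_orderOf hx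
  have hzz : z * z = 1 := by rw [← pow_two]; exact sq_of_orderOf hz
  have hzx : z * x = x * z := hc.eq.symm
  have h1 : x * (x * z) = z := by rw [← mul_assoc, hxx, one_mul]
  have h2 : z * (x * z) = x := by rw [← mul_assoc, hzx, mul_assoc, hzz, mul_one]
  have h3 : x * z * x = z := by rw [mul_assoc, hzx, h1]
  have h4 : x * z * z = x := by rw [mul_assoc, hzz, mul_one]
  have h5 : x * z * (x * z) = 1 := by rw [mul_assoc, h2, hxx]
  induction hw using Subgroup.closure_induction with
  | mem w hw => rcases hw with rfl | hw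
                · exact Or.inr (Or.inl rfl)
                · exact Or.inr (Or.inr (Or.inl (Set.mem_singleton_iff.mp hw)))
  | one => exact Or.inl rfl
  | mul u v _ _ hu hv =>
    rcases hu with rfl | rfl | rfl | rfl <;> rcases hv with rfl | rfl | rfl | rfl <;>
      simp [hxx, hzz, hzx, h1, h2, h3, h4, h5]
  | inv u _ hu =>
    rcases hu with rfl | rfl | rfl | rfl <;>
      simp [inv_eq_of_mul_eq_one_right hxx, inv_eq_of_mul_eq_one_right hzz, hzx]

/-- If `C_S(x)` is not Sylow in `C(x)`, some element fixes `x` and moves `z` to `xz`. -/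
theorem exists_swap (hxS : x ∈ (S : Subgroup G)) (hx : orderOf x = 2) (hxz : x ≠ z)
    (hiso : Isolated S x) {T₂ : Subgroup G} (hT₂ : IsPGroup 2 T₂)
    (hT₂x : T₂ ≤ centralizer ({x} : Set G))
    (hle : (S : Subgroup G) ⊓ centralizer ({x} : Set G) < T₂) :
    ∃ g : G, g * x * g⁻¹ = x ∧ g * z * g⁻¹ = x * z ∧
      g ∈ normalizer (((S : Subgroup G) ⊓ centralizer ({x} : Set G) : Subgroup G) : Set G) := by
  haveI : Fact (Nat.Prime 2) := ⟨Nat.prime_two⟩
  set T := (S : Subgroup G) ⊓ centralizer ({x} : Set G) with hT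
  haveI : Group.IsNilpotent ↥T₂ := hT₂.isNilpotent
  have hlt : T.subgroupOf T₂ < ⊤ := lt_top_iff_ne_top.mpr fun h => by
    rw [subgroupOf_eq_top] at h
    exact lt_irrefl _ (lt_of_lt_of_le hle h)
  obtain ⟨⟨g, hgT₂⟩, hg, hgT⟩ :=
    SetLike.exists_of_lt (Group.normalizerCondition_of_isNilpotent _ hlt)
  have hgn : g ∈ normalizer (T : Set G) := by
    rw [mem_normalizer_iff]
    intro u
    constructor
    · intro hu
      exact (mem_normalizer_iff.mp hg ⟨u, hle.le hu⟩).mp hu
    · intro hu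
      have huT₂ : u ∈ T₂ := by
        have := mul_mem (mul_mem (inv_mem hgT₂) (hle.le hu)) hgT₂
        simpa [mul_assoc] using this
      exact (mem_normalizer_iff.mp hg ⟨u, huT₂⟩).mpr hu
  have hgx : g * x * g⁻¹ = x :=
    mul_inv_eq_iff_eq_mul.mpr (mem_centralizer_singleton_iff.mp (hT₂x hgT₂))
  refine ⟨g, hgx, ?_, hgn⟩
  have hzT : z ∈ T := ⟨O.zS, mem_centralizer_singleton_iff.mpr (O.zc x hxS).eq.symm⟩
  have hz' : g * z * g⁻¹ ∈ T := (mem_normalizer_iff.mp hgn z).mp hzT
  have hzo : orderOf (g * z * g⁻¹) = 2 := by rw [conj_orderOf]; exact O.oz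
  rcases four_cases hx O.oz (O.zc x hxS) (O.centralizer_involutions hxS hx hxz hiso hz'.1
    (sq_of_orderOf hzo) (mem_centralizer_singleton_iff.mp hz'.2)) with h | h | h | h
  · rw [h] at hzo; simp at hzo
  · exact absurd (mul_left_cancel (mul_right_cancel (h.trans hgx.symm))) (Ne.symm hxz)
  · exfalso
    apply hgT
    rw [mem_subgroupOf]
    refine ⟨mem_sylow_of_mem_normalizer S (O.cz ?_) (hT₂.to_le (zpowers_le.mpr hgT₂)), hT₂x hgT₂⟩
    exact mem_centralizer_singleton_iff.mpr (mul_inv_eq_iff_eq_mul.mp h)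
  · exact h

theorem isolated_mul (hiso : Isolated S x) : Isolated S (x * z) := by
  intro E hES hE hin
  refine hiso (E ⊔ zpowers z) (sup_le hES (zpowers_le.mpr O.zS))
    ⟨isElementaryAbelian_insert hE.1 (sq_of_orderOf O.oz) (fun e he => O.zc e (hES he)),
      hE.2.trans (card_le_of_le le_sup_left)⟩ ?_
  have h : x * z * z ∈ E ⊔ zpowers z := mul_mem (mem_sup_left hin) (mem_sup_right (mem_zpowers z))
  rwa [mul_assoc, ← pow_two, sq_of_orderOf O.oz, mul_one] at h

/-- A noncentral conjugate of `z` in `S` has small centralizer in `S`. -/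
theorem lt_conjugate (hxS : x ∈ (S : Subgroup G)) (hx : orderOf x = 2) (hxz : x ≠ z) {g : G}
    (hg : g * z * g⁻¹ = x) :
    ∃ T₂ : Subgroup G, IsPGroup 2 T₂ ∧ T₂ ≤ centralizer ({x} : Set G) ∧
      (S : Subgroup G) ⊓ centralizer ({x} : Set G) < T₂ := by
  refine ⟨(g • S : Sylow 2 G), (g • S : Sylow 2 G).isPGroup', ?_, ?_⟩
  · rw [Sylow.coe_subgroup_smul]
    rintro _ ⟨s, hs, rfl⟩
    rw [mem_centralizer_singleton_iff, ← hg]
    simp only [MulDistribMulAction.toMonoidEnd_apply, MulDistribMulAction.toMonoidHom_apply,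
      MulAut.smul_def, MulAut.conj_apply]
    calc g * s * g⁻¹ * (g * z * g⁻¹) = g * (s * z) * g⁻¹ := by group
      _ = g * (z * s) * g⁻¹ := by rw [(O.zc s hs).eq]
      _ = _ := by group
  · have hle : (S : Subgroup G) ⊓ centralizer ({x} : Set G) ≤ ((g • S : Sylow 2 G) : Subgroup G) := by
      intro y hy
      have hy' : g⁻¹ * y * g ∈ centralizer ({z} : Set G) := by
        have h := mem_centralizer_singleton_iff.mp hy.2
        rw [← hg] at h
        rw [mem_centralizer_singleton_iff]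
        calc g⁻¹ * y * g * z = g⁻¹ * (y * (g * z * g⁻¹)) * g := by group
          _ = g⁻¹ * (g * z * g⁻¹ * y) * g := by rw [h]
          _ = _ := by group
      have h2 : IsPGroup 2 (zpowers (g⁻¹ * y * g)) := by
        obtain ⟨k, hk⟩ := IsPGroup.iff_orderOf.mp S.isPGroup' ⟨y, hy.1⟩
        refine IsPGroup.of_card (n := k) ?_
        rw [Nat.card_zpowers, show g⁻¹ * y * g = g⁻¹ * y * g⁻¹⁻¹ by group, conj_orderOf, ← hk,
          ← Subgroup.orderOf_coe]
      have h3 := mem_sylow_of_mem_normalizer S (O.cz hy') h2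
      rw [Sylow.coe_subgroup_smul, mem_pointwise_smul_iff_inv_smul_mem]
      simpa [MulAut.smul_def, mul_assoc] using h3
    refine lt_of_le_of_ne hle fun heq => hxz ?_
    refine O.uniq x hxS hx fun s hs => ?_
    have hcard : Nat.card ((S : Subgroup G) ⊓ centralizer ({x} : Set G) : Subgroup G) =
        Nat.card (S : Subgroup G) := by
      rw [heq, (g • S).card_eq_multiplicity, S.card_eq_multiplicity]
    have heq2 := Subgroup.eq_of_le_of_card_ge
      (inf_le_left : (S : Subgroup G) ⊓ centralizer ({x} : Set G) ≤ S) hcard.ge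
    have hs' : s ∈ (S : Subgroup G) ⊓ centralizer ({x} : Set G) := by rw [heq2]; exact hs
    exact mem_centralizer_singleton_iff.mp hs'.2

/-- An isolated involution with noncentral Sylow centralizer is conjugate to `z`. -/
theorem conj_of_not_sylow (hxS : x ∈ (S : Subgroup G)) (hx : orderOf x = 2) (hxz : x ≠ z)
    (hiso : Isolated S x) {T₂ : Subgroup G} (hT₂ : IsPGroup 2 T₂)
    (hT₂x : T₂ ≤ centralizer ({x} : Set G))
    (hle : (S : Subgroup G) ⊓ centralizer ({x} : Set G) < T₂) :
    ∃ g : G, g * z * g⁻¹ = x := by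
  obtain ⟨g₁, -, hg₁, -⟩ := O.exists_swap hxS hx hxz hiso hT₂ hT₂x hle
  have hc := O.zc x hxS
  have hvS := mul_mem hxS O.zS
  have hv := orderOf_mul_commute hx O.oz hxz hc
  have hvz : x * z ≠ z := fun h => by
    rw [mul_eq_right] at h
    simp [h] at hx
  obtain ⟨T₃, hT₃, hT₃x, hlt⟩ := O.lt_conjugate hvS hv hvz hg₁
  obtain ⟨g₂, -, hg₂, -⟩ := O.exists_swap hvS hv hvz (O.isolated_mul hiso) hT₃ hT₃x hlt
  exact ⟨g₂, by rw [hg₂, mul_assoc, ← pow_two, sq_of_orderOf O.oz, mul_one]⟩

/-- `O(C(x)) = O(C(z))` for conjugates of `z` inside `S`. -/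
theorem cpc_eq (hC : SolvCent G) (hxS : x ∈ (S : Subgroup G)) {g : G} (hg : g * z * g⁻¹ = x) :
    θ x = θ z ∧ g ∈ normalizer ((θ z : Subgroup G) : Set G) := by
  haveI : Fact (Nat.Prime 2) := ⟨Nat.prime_two⟩
  have hx : orderOf x = 2 := by rw [← hg, conj_orderOf]; exact O.oz
  have hle : θ z ≤ θ x := by
    intro y hy
    have hys : y * x * y⁻¹ * x⁻¹ ∈ (S : Subgroup G) ⊓ θ z := by
      refine ⟨mul_mem (show y * x * y⁻¹ ∈ (S : Subgroup G) from
        (mem_normalizer_iff.mp (O.cz (Signalizer.cpc_le z hy)) x).mp hxS)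
        (Subgroup.inv_mem _ hxS), ?_⟩
      rw [show y * x * y⁻¹ * x⁻¹ = y * (x * y⁻¹ * x⁻¹) by group]
      exact mul_mem hy ((mem_normalizer_iff.mp (Signalizer.le_normalizer_cpc z
        (mem_centralizer_singleton_iff.mpr (O.zc x hxS).eq)) _).mp (inv_mem hy))
    rw [Thompson.inf_eq_bot_of_isPGroup_of_coprime S.isPGroup'
      (Nat.coprime_two_right.mpr (Signalizer.cpc_odd z)), mem_bot, mul_inv_eq_one,
      mul_inv_eq_iff_eq_mul] at hys
    exact Signalizer.inf_centralizer_le O.oz (hC.con hx) (O.zc x hxS).symm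
      ⟨hy, mem_centralizer_singleton_iff.mpr hys⟩
  have hmap : (θ z).map (MulAut.conj g).toMonoidHom ≤ θ x := by
    rintro _ ⟨y, hy, rfl⟩
    rw [← hg]
    simpa using Signalizer.conj_mem_cpc g hy
  have hmap' : (θ x).map (MulAut.conj g⁻¹).toMonoidHom ≤ θ z := by
    rintro _ ⟨y, hy, rfl⟩
    have h := Signalizer.conj_mem_cpc g⁻¹ hy
    rw [← hg, show g⁻¹ * (g * z * g⁻¹) * g⁻¹⁻¹ = z by group] at h
    simpa using h
  have h1 := card_le_of_le hmap'
  rw [card_map_of_injective (MulAut.conj g⁻¹).injective] at h1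
  have heq : θ z = θ x := Subgroup.eq_of_le_of_card_ge hle h1
  refine ⟨heq.symm, ?_⟩
  rw [mem_normalizer_iff_map_conj_eq]
  rw [← heq] at hmap
  refine Subgroup.eq_of_le_of_card_ge hmap ?_
  rw [card_map_of_injective (MulAut.conj g).injective]

end One

end Cfsg.Agent.InvChar68.ZC
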